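import Groth.Agent.AlgStLib.GrpdQuotRestrict
import Mathlib.AlgebraicGeometry.Morphisms.Finite
import Mathlib.AlgebraicGeometry.Morphisms.Etale
import Mathlib.AlgebraicGeometry.Morphisms.UniversallyOpen

/-!
# Finite clopen pieces of the source map of a groupoid

For `τ : T ⟶ U` and a clopen part `P` of `R ×_{s,U} T`, finite over `T` and containing the identity
section, two points of `T` are joined by an arrow when translation along the arrow identifies their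
pieces.  This is open and closed among all arrows between points of `T`.
-/

set_option backward.isDefEq.respectTransparency false
set_option backward.isDefEq.respectTransparency.types false

universe u

open CategoryTheory CategoryTheory.Limits AlgebraicGeometry Grpd Groth.Agent.AlgStLib.QuotRestrict

namespace Groth.Agent.GrpdSplit

variable {S : Scheme.{u}} (G : GroupoidScheme S)

/-- The identity section of `R ×_{s,U} T`. -/
noncomputable def idSection {T : Scheme.{u}} (τ : T ⟶ G.U) : T ⟶ pullback G.s τ :=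
  pullback.lift (τ ≫ G.e) (𝟙 T) (by rw [Category.assoc, G.e_s, Category.comp_id, Category.id_comp])

/-- A finite clopen piece of the source map through the identity. -/
structure Datum where
  /-- the new objects -/
  T : Scheme.{u}
  /-- the map to the old objects -/
  τ : T ⟶ G.U
  etaleτ : Etale τ
  /-- the piece -/
  P : (pullback G.s τ).Opens
  finP : IsFinite (P.ι ≫ pullback.snd G.s τ)
  memP : ∀ a, idSection G τ a ∈ P

attribute [instance] Datum.etaleτ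

variable {G}

namespace Datum

variable (D : Datum G)

/-- The arrows with source in `T`. -/
noncomputable abbrev Q : Scheme.{u} := pullback G.s D.τ

/-- The source of an arrow. -/
noncomputable abbrev sn : D.Q ⟶ D.T := pullback.snd G.s D.τ

/-- The underlying arrow. -/
noncomputable abbrev pr : D.Q ⟶ G.R := pullback.fst G.s D.τ

theorem pr_s : D.pr ≫ G.s = D.sn ≫ D.τ := pullback.condition

/-- The arrow `r` from `a` to `b` identifies the pieces. -/
def Same {X : Scheme.{u}} (a b : X ⟶ D.T) (r : X ⟶ G.R) : Prop :=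
  r ≫ G.s = a ≫ D.τ ∧ r ≫ G.t = b ≫ D.τ ∧
    ∀ ⦃X' : Scheme.{u}⦄ (φ : X' ⟶ X) (qa qb : X' ⟶ D.Q), qa ≫ D.sn = φ ≫ a → qb ≫ D.sn = φ ≫ b →
      cmp G (qb ≫ D.pr) (φ ≫ r) = qa ≫ D.pr → ∀ ω, qa ω ∈ D.P ↔ qb ω ∈ D.P

variable {D}

theorem hom_ext {X : Scheme.{u}} {x y : X ⟶ D.Q} (h1 : x ≫ D.pr = y ≫ D.pr) (h2 : x ≫ D.sn = y ≫ D.sn) :
    x = y := pullback.hom_ext h1 h2

theorem comp_of_over {X X' : Scheme.{u}} {a : X ⟶ D.T} {r : X ⟶ G.R} (h : r ≫ G.t = a ≫ D.τ)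
    {φ : X' ⟶ X} {q : X' ⟶ D.Q} (hq : q ≫ D.sn = φ ≫ a) : (q ≫ D.pr) ≫ G.s = (φ ≫ r) ≫ G.t := by
  rw [Category.assoc, pr_s, reassoc_of% hq, Category.assoc, h]

theorem Same.refl {X : Scheme.{u}} (a : X ⟶ D.T) : D.Same a a ((a ≫ D.τ) ≫ G.e) := by
  refine ⟨id_s _, id_t _, fun X' φ qa qb h1 h2 h3 ω => ?_⟩
  have : cmp G (qb ≫ D.pr) (φ ≫ (a ≫ D.τ) ≫ G.e) = qb ≫ D.pr := by
    rw [← Category.assoc φ, ← Category.assoc φ, ← h2]
    refine cmp_id ?_
    rw [Category.assoc, pr_s, Category.assoc]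
  rw [hom_ext (h3.symm.trans this) (h1.trans h2.symm)]

theorem Same.symm {X : Scheme.{u}} {a b : X ⟶ D.T} {r : X ⟶ G.R} (h : D.Same a b r) :
    D.Same b a (r ≫ G.i) := by
  refine ⟨(inv_s r).trans h.2.1, (inv_t r).trans h.1, fun X' φ qb qa h1 h2 h3 ω => ?_⟩
  refine (h.2.2 φ qa qb h2 h1 ?_ ω).symm
  have e₁ : (qa ≫ D.pr) ≫ G.s = (φ ≫ r ≫ G.i) ≫ G.t := comp_of_over ((inv_t r).trans h.1) h2
  rw [← h3, cmp_assoc e₁ (by rw [Category.assoc, inv_s, Category.assoc]), ← Category.assoc φ r, inv_cmp]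
  refine cmp_id ?_
  rw [Category.assoc, pr_s, reassoc_of% h2, Category.assoc, h.1]

theorem Same.trans {X : Scheme.{u}} {a b d : X ⟶ D.T} {r r' : X ⟶ G.R} (h : D.Same a b r)
    (h' : D.Same b d r') : D.Same a d (cmp G r' r) := by
  have hc : r' ≫ G.s = r ≫ G.t := h'.1.trans h.2.1.symm
  refine ⟨(cmp_s hc).trans h.1, (cmp_t hc).trans h'.2.1, fun X' φ qa qd h1 h2 h3 ω => ?_⟩
  have e₁ : (qd ≫ D.pr) ≫ G.s = (φ ≫ r') ≫ G.t := comp_of_over h'.2.1 h2
  let qb : X' ⟶ D.Q := pullback.lift (cmp G (qd ≫ D.pr) (φ ≫ r')) (φ ≫ b) (by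
    rw [cmp_s e₁, Category.assoc, h'.1, Category.assoc])
  refine (h.2.2 φ qa qb h1 (pullback.lift_snd _ _ _) ?_ ω).trans
    (h'.2.2 φ qb qd (pullback.lift_snd _ _ _) h2 (pullback.lift_fst _ _ _).symm ω)
  rw [show qb ≫ D.pr = cmp G (qd ≫ D.pr) (φ ≫ r') from pullback.lift_fst _ _ _,
    cmp_assoc e₁ (by rw [Category.assoc, hc, Category.assoc]), ← comp_cmp φ hc, h3]

theorem Same.comp {X Y : Scheme.{u}} {a b : X ⟶ D.T} {r : X ⟶ G.R} (h : D.Same a b r) (ψ : Y ⟶ X) :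
    D.Same (ψ ≫ a) (ψ ≫ b) (ψ ≫ r) :=
  ⟨by rw [Category.assoc, h.1, Category.assoc], by rw [Category.assoc, h.2.1, Category.assoc],
    fun _ φ qa qb h1 h2 h3 ω => h.2.2 (φ ≫ ψ) qa qb (h1.trans (Category.assoc _ _ _).symm)
      (h2.trans (Category.assoc _ _ _).symm) (by rw [Category.assoc]; exact h3) ω⟩

variable (D)

/-- All arrows between points of `T`. -/
noncomputable abbrev R2 : Scheme.{u} := pullback (D.pr ≫ G.t) D.τ

/-- The source. -/
noncomputable abbrev ra : D.R2 ⟶ D.T := pullback.fst (D.pr ≫ G.t) D.τ ≫ D.sn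

/-- The target. -/
noncomputable abbrev rb : D.R2 ⟶ D.T := pullback.snd (D.pr ≫ G.t) D.τ

/-- The arrow. -/
noncomputable abbrev ρ : D.R2 ⟶ G.R := pullback.fst (D.pr ≫ G.t) D.τ ≫ D.pr

theorem ρ_s : D.ρ ≫ G.s = D.ra ≫ D.τ := by
  rw [Category.assoc, pr_s, Category.assoc]

theorem ρ_t : D.ρ ≫ G.t = D.rb ≫ D.τ := by
  rw [Category.assoc]; exact pullback.condition

theorem comp_ρ_s {X : Scheme.{u}} (g : X ⟶ D.R2) : (g ≫ D.ρ) ≫ G.s = (g ≫ D.ra) ≫ D.τ := by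
  rw [Category.assoc g D.ρ, ρ_s, ← Category.assoc g D.ra]

theorem comp_ρ_t {X : Scheme.{u}} (g : X ⟶ D.R2) : (g ≫ D.ρ) ≫ G.t = (g ≫ D.rb) ≫ D.τ := by
  rw [Category.assoc g D.ρ, ρ_t, ← Category.assoc g D.rb]

theorem comp_pr_s {X : Scheme.{u}} (g : X ⟶ D.Q) : (g ≫ D.pr) ≫ G.s = (g ≫ D.sn) ≫ D.τ := by
  rw [Category.assoc g D.pr, pr_s, ← Category.assoc g D.sn]

theorem exists_lift {X : Scheme.{u}} {a b : X ⟶ D.T} {r : X ⟶ G.R} (hs : r ≫ G.s = a ≫ D.τ)
    (ht : r ≫ G.t = b ≫ D.τ) : ∃ x : X ⟶ D.R2, x ≫ D.ra = a ∧ x ≫ D.rb = b ∧ x ≫ D.ρ = r := by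
  refine ⟨pullback.lift (pullback.lift r a hs) b ?_, ?_, pullback.lift_snd _ _ _, ?_⟩
  · rw [pullback.lift_fst_assoc]; exact ht
  · rw [pullback.lift_fst_assoc, pullback.lift_snd]
  · rw [pullback.lift_fst_assoc, pullback.lift_fst]

theorem R2_ext {X : Scheme.{u}} {x y : X ⟶ D.R2} (h1 : x ≫ D.ra = y ≫ D.ra) (h2 : x ≫ D.rb = y ≫ D.rb)
    (h3 : x ≫ D.ρ = y ≫ D.ρ) : x = y :=
  pullback.hom_ext (pullback.hom_ext (by simpa [ρ] using h3) (by simpa [ra] using h1)) h2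

/-- Arrows between points of `T` with a point of the piece of the source. -/
noncomputable abbrev Q2 : Scheme.{u} := pullback D.ra D.sn

theorem χ_aux : (pullback.snd D.ra D.sn ≫ D.pr) ≫ G.s =
    ((pullback.fst D.ra D.sn ≫ D.ρ) ≫ G.i) ≫ G.t := by
  rw [inv_t, comp_pr_s, comp_ρ_s, pullback.condition]

/-- The translated point over the target. -/
noncomputable def χ : D.Q2 ⟶ D.Q :=
  pullback.lift (cmp G (pullback.snd D.ra D.sn ≫ D.pr) ((pullback.fst D.ra D.sn ≫ D.ρ) ≫ G.i))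
    (pullback.fst D.ra D.sn ≫ D.rb) (by rw [cmp_s D.χ_aux, inv_s, Category.assoc, ρ_t, Category.assoc])

theorem χ_sn : D.χ ≫ D.sn = pullback.fst D.ra D.sn ≫ D.rb := pullback.lift_snd _ _ _

theorem χ_pr : D.χ ≫ D.pr = cmp G (pullback.snd D.ra D.sn ≫ D.pr) ((pullback.fst D.ra D.sn ≫ D.ρ) ≫ G.i) :=
  pullback.lift_fst _ _ _

theorem cmp_χ : cmp G (D.χ ≫ D.pr) (pullback.fst D.ra D.sn ≫ D.ρ) = pullback.snd D.ra D.sn ≫ D.pr := by
  rw [χ_pr, cmp_assoc D.χ_aux (inv_s _), inv_cmp]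
  refine cmp_id ?_
  rw [comp_pr_s, comp_ρ_s, pullback.condition]

theorem isPullback_χ : IsPullback D.χ (pullback.fst D.ra D.sn) D.sn D.rb := by
  refine ⟨⟨D.χ_sn⟩, ⟨PullbackCone.isLimitAux' _ fun c => ?_⟩⟩
  have e : (c.fst ≫ D.pr) ≫ G.s = (c.snd ≫ D.ρ) ≫ G.t := comp_of_over D.ρ_t c.condition
  let qa : c.pt ⟶ D.Q := pullback.lift (cmp G (c.fst ≫ D.pr) (c.snd ≫ D.ρ)) (c.snd ≫ D.ra) (by
    rw [cmp_s e, comp_ρ_s])
  let w : c.pt ⟶ D.Q2 := pullback.lift c.snd qa (pullback.lift_snd _ _ _).symm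
  have hw1 : w ≫ pullback.fst D.ra D.sn = c.snd := pullback.lift_fst _ _ _
  have hw2 : w ≫ pullback.snd D.ra D.sn = qa := pullback.lift_snd _ _ _
  refine ⟨w, ?_, hw1, fun {m} hm1 hm2 => ?_⟩
  · show w ≫ D.χ = c.fst
    refine hom_ext ?_ (by rw [Category.assoc, χ_sn, reassoc_of% hw1]; exact c.condition.symm)
    rw [Category.assoc, χ_pr, comp_cmp w D.χ_aux, reassoc_of% hw2,
      show qa ≫ D.pr = cmp G (c.fst ≫ D.pr) (c.snd ≫ D.ρ) from pullback.lift_fst _ _ _]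
    simp only [← Category.assoc]
    rw [hw1]
    have e₂ : (c.snd ≫ D.ρ) ≫ G.s = ((c.snd ≫ D.ρ) ≫ G.i) ≫ G.t := (inv_t _).symm
    simp only [Category.assoc] at e e₂ ⊢
    rw [cmp_assoc (by simpa only [Category.assoc] using e) (by simpa only [Category.assoc] using e₂)]
    have := cmp_inv (c.snd ≫ D.ρ)
    simp only [Category.assoc] at this
    rw [this]
    have e₃ := cmp_id (r := c.fst ≫ D.pr) (show (c.fst ≫ D.pr) ≫ G.s = (c.snd ≫ D.ρ) ≫ G.t by simpa only [Category.assoc] using e)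
    simp only [Category.assoc] at e₃ ⊢
    exact e₃
  · change m ≫ D.χ = c.fst at hm1
    change m ≫ pullback.fst D.ra D.sn = c.snd at hm2
    refine pullback.hom_ext (hm2.trans hw1.symm) ?_
    rw [hw2]
    refine hom_ext ?_ ?_
    · rw [Category.assoc, ← D.cmp_χ, comp_cmp m (comp_of_over D.ρ_t D.χ_sn), reassoc_of% hm1,
        reassoc_of% hm2]
      exact (pullback.lift_fst _ _ _).symm
    · rw [Category.assoc, ← pullback.condition, reassoc_of% hm2]
      exact (pullback.lift_snd _ _ _).symm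

/-- Where the two pulled back pieces differ. -/
def bad : Set D.Q2 :=
  (pullback.snd D.ra D.sn ⁻¹' (D.P : Set D.Q) ∩ (D.χ ⁻¹' (D.P : Set D.Q))ᶜ) ∪
    (D.χ ⁻¹' (D.P : Set D.Q) ∩ (pullback.snd D.ra D.sn ⁻¹' (D.P : Set D.Q))ᶜ)

theorem isClosed_image_of_piece {X Y : Scheme.{u}} (g : X ⟶ Y) {x : X ⟶ D.Q} {y : Y ⟶ D.T}
    (h : IsPullback x g D.sn y) {C : Set X} (hC : IsClosed C) (hCP : C ⊆ x ⁻¹' (D.P : Set D.Q)) :
    IsClosed (g '' C) := by
  have hf : IsFinite ((x ⁻¹ᵁ D.P).ι ≫ g) :=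
    MorphismProperty.of_isPullback (P := @IsFinite) ((isPullback_morphismRestrict x D.P).paste_vert h) D.finP
  have h' : g '' C = ((x ⁻¹ᵁ D.P).ι ≫ g) '' ((x ⁻¹ᵁ D.P).ι ⁻¹' C) := by
    rw [Scheme.Hom.comp_base, TopCat.coe_comp, Set.image_comp, Set.image_preimage_eq_of_subset]
    rw [Scheme.Opens.range_ι]
    exact hCP
  rw [h']
  exact ((x ⁻¹ᵁ D.P).ι ≫ g).isClosedMap _ (hC.preimage (x ⁻¹ᵁ D.P).ι.continuous)

theorem isClosed_P [IsSeparated G.s] : IsClosed (D.P : Set D.Q) := by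
  have : IsFinite (D.P.ι ≫ D.sn) := D.finP
  have : UniversallyClosed D.P.ι := UniversallyClosed.of_comp_of_isSeparated D.P.ι D.sn
  rw [← Scheme.Opens.range_ι D.P]
  exact D.P.ι.isClosedMap.isClosed_range

theorem isClopen_image_bad [IsSeparated G.s] [Flat G.s] [LocallyOfFinitePresentation G.s] :
    IsClopen (pullback.fst D.ra D.sn '' D.bad) := by
  have hP : IsClopen (D.P : Set D.Q) := ⟨D.isClosed_P, D.P.2⟩
  have hA := hP.preimage (pullback.snd D.ra D.sn).continuous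
  have hB := hP.preimage D.χ.continuous
  refine ⟨?_, (pullback.fst D.ra D.sn).isOpenMap _ ((hA.inter hB.compl).union (hB.inter hA.compl)).2⟩
  rw [bad, Set.image_union]
  exact (D.isClosed_image_of_piece _ (IsPullback.of_hasPullback D.ra D.sn).flip
      (hA.inter hB.compl).1 Set.inter_subset_left).union
    (D.isClosed_image_of_piece _ D.isPullback_χ (hB.inter hA.compl).1 Set.inter_subset_left)

variable [IsSeparated G.s] [Flat G.s] [LocallyOfFinitePresentation G.s]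

/-- The arrows identifying the pieces. -/
def E : D.R2.Opens := ⟨(pullback.fst D.ra D.sn '' D.bad)ᶜ, D.isClopen_image_bad.compl.2⟩

theorem isClosed_E : IsClosed (D.E : Set D.R2) := D.isClopen_image_bad.compl.1

theorem mem_E_iff {r : D.R2} : r ∈ D.E ↔
    ∀ w, pullback.fst D.ra D.sn w = r → (pullback.snd D.ra D.sn w ∈ D.P ↔ D.χ w ∈ D.P) := by
  show r ∉ _ ↔ _
  constructor
  · intro h w hw
    by_contra hne
    refine h ⟨w, ?_, hw⟩
    by_cases hp : pullback.snd D.ra D.sn w ∈ D.P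
    · exact Or.inl ⟨hp, fun hχ => hne ⟨fun _ => hχ, fun _ => hp⟩⟩
    · exact Or.inr ⟨by_contra fun hχ => hne ⟨fun h' => absurd h' hp, fun h' => absurd h' hχ⟩, hp⟩
  · rintro h ⟨w, hw, rfl⟩
    rcases hw with ⟨h1, h2⟩ | ⟨h1, h2⟩
    · exact h2 ((h w rfl).1 h1)
    · exact h2 ((h w rfl).2 h1)

theorem same_iff {X : Scheme.{u}} (x : X ⟶ D.R2) :
    D.Same (x ≫ D.ra) (x ≫ D.rb) (x ≫ D.ρ) ↔ ∀ p, x p ∈ D.E := by
  constructor
  · intro h p
    rw [mem_E_iff]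
    intro w hw
    obtain ⟨ω, h1, h2⟩ := Scheme.exists_preimage_of_isPullback
      (IsPullback.of_hasPullback x (pullback.fst D.ra D.sn)) p w hw.symm
    let φ := pullback.fst x (pullback.fst D.ra D.sn)
    let w' := pullback.snd x (pullback.fst D.ra D.sn)
    have hφ : φ ≫ x = w' ≫ pullback.fst D.ra D.sn := pullback.condition
    have := h.2.2 φ (w' ≫ pullback.snd D.ra D.sn) (w' ≫ D.χ)
      (by rw [Category.assoc, ← pullback.condition, reassoc_of% hφ])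
      (by rw [Category.assoc, D.χ_sn, reassoc_of% hφ])
      (by
        have e := comp_cmp w' (comp_of_over (a := D.rb) D.ρ_t D.χ_sn)
        rw [cmp_χ] at e
        rw [Category.assoc w' D.χ, ← Category.assoc φ x, hφ, Category.assoc w' (pullback.fst D.ra D.sn)]
        exact e.symm.trans (Category.assoc _ _ _).symm) ω
    rw [Scheme.Hom.comp_apply, Scheme.Hom.comp_apply] at this
    rwa [show w' ω = w from h2] at this
  · intro h
    refine ⟨D.comp_ρ_s x, D.comp_ρ_t x,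
      fun X' φ qa qb h1 h2 h3 ω => ?_⟩
    let w := pullback.lift (f := D.ra) (g := D.sn) (φ ≫ x) qa (by rw [h1, Category.assoc])
    have hw1 : w ≫ pullback.fst D.ra D.sn = φ ≫ x := pullback.lift_fst _ _ _
    have hw2 : w ≫ pullback.snd D.ra D.sn = qa := pullback.lift_snd _ _ _
    have hw3 : w ≫ D.χ = qb := by
      refine hom_ext ?_ (by rw [Category.assoc, χ_sn, reassoc_of% hw1, h2])
      have e₁ : (qb ≫ D.pr) ≫ G.s = (φ ≫ x ≫ D.ρ) ≫ G.t :=
        comp_of_over (D.comp_ρ_t x) h2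
      rw [Category.assoc, χ_pr, comp_cmp w D.χ_aux, reassoc_of% hw2, ← h3]
      simp only [← Category.assoc] at e₁ ⊢
      rw [hw1, cmp_assoc e₁ (inv_t _).symm, cmp_inv]
      exact cmp_id e₁
    have := (D.mem_E_iff.1 (h (φ ω))) (w ω) (by
      rw [← Scheme.Hom.comp_apply, hw1, Scheme.Hom.comp_apply])
    rwa [← Scheme.Hom.comp_apply, hw2, ← Scheme.Hom.comp_apply, hw3] at this

theorem exists_id : ∃ d : D.T ⟶ D.R2, d ≫ D.ra = 𝟙 D.T ∧ d ≫ D.rb = 𝟙 D.T ∧ d ≫ D.ρ = D.τ ≫ G.e ∧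
    ∀ a, d a ∈ D.E := by
  obtain ⟨d, h1, h2, h3⟩ := D.exists_lift (a := 𝟙 D.T) (b := 𝟙 D.T) (r := D.τ ≫ G.e)
    (by rw [id_s, Category.id_comp]) (by rw [id_t, Category.id_comp])
  refine ⟨d, h1, h2, h3, (D.same_iff d).1 ?_⟩
  rw [h1, h2, h3]
  simpa using Same.refl (D := D) (𝟙 D.T)

end Datum

end Groth.Agent.GrpdSplit
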