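import Groth.Agent.GrpdSplit.Quot
import Groth.Agent.EtFound.Descent

/-!
# Pieces classified by their base
-/

set_option backward.isDefEq.respectTransparency false
set_option backward.isDefEq.respectTransparency.types false

universe u

open CategoryTheory CategoryTheory.Limits AlgebraicGeometry Grpd Groth.Agent.AlgStLib.QuotRestrict

namespace Groth.Agent.GrpdSplit.Datum

variable {S : Scheme.{u}} {G : GroupoidScheme S}

/-- A point of the base is determined by its image and its piece. -/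
def Inj (D : Datum G) : Prop :=
  ∀ ⦃X : Scheme.{u}⦄ (a b : X ⟶ D.T), D.Same a b ((a ≫ D.τ) ≫ G.e) → a = b

/-- Two arrows with the same endpoints identifying the pieces agree when pieces classify. -/
theorem Inj.eq {D : Datum G} (h : D.Inj) {X : Scheme.{u}} {a b b' : X ⟶ D.T} {r : X ⟶ G.R}
    (h₁ : D.Same a b r) (h₂ : D.Same a b' r) : b = b' := by
  apply h
  have := h₁.symm.trans h₂
  rwa [cmp_inv r, h₂.2.1, ← show r ≫ G.t = b' ≫ D.τ from h₂.2.1, h₁.2.1] at this

theorem exists_inj (D : Datum G) [IsSeparated G.s] [Flat G.s] [LocallyOfFinitePresentation G.s]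
    [IsAffine G.U] [QuasiCompact D.τ] :
    ∃ (D' : Datum G) (π : D.T ⟶ D'.T) (hπ : π ≫ D'.τ = D.τ), Etale π ∧ Surjective π ∧ D'.Inj ∧
      IsSeparated D'.τ ∧
      pullback.map G.s D.τ G.s D'.τ (𝟙 G.R) π (𝟙 G.U) (by simp) (by simp [hπ]) ⁻¹ᵁ D'.P = D.P := by
  let T : Over G.U := Over.mk D.τ
  have : Etale T.hom := D.etaleτ
  let l₀ : pullback D.τ D.τ ⟶ G.R := (pullback.fst D.τ D.τ ≫ D.τ) ≫ G.e
  obtain ⟨jt, hj1, hj2, hj3⟩ := D.exists_lift (a := pullback.fst D.τ D.τ) (b := pullback.snd D.τ D.τ)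
    (r := l₀) (by rw [id_s]) (by rw [id_t, pullback.condition])
  obtain ⟨Z, π, hπe, hπs, hZe, hZsep, hπrel⟩ := exists_quot_clopen (T := T)
    (fun a b => D.Same a.left b.left ((a.left ≫ D.τ) ≫ G.e)) (jt ⁻¹ᵁ D.E)
    (D.isClosed_E.preimage jt.continuous)
    (fun {X} a b => by
      have h := D.same_iff (pullback.lift (f := T.hom) (g := T.hom) a.left b.left ((Over.w a).trans (Over.w b).symm) ≫ jt)
      rw [Category.assoc, hj1, Category.assoc, hj2, Category.assoc, hj3] at h
      simp only [l₀, pullback.lift_fst_assoc, Category.assoc, pullback.lift_snd] at h ⊢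
      erw [pullback.lift_fst_assoc, pullback.lift_fst, pullback.lift_snd] at h
      exact h)
    (fun a => Same.refl _)
    (fun {X a b} h => by
      have e : ((a.left ≫ D.τ) ≫ G.e) ≫ G.i = (b.left ≫ D.τ) ≫ G.e := by
        have hab : a.left ≫ D.τ = b.left ≫ D.τ := (Over.w a).trans (Over.w b).symm
        rw [← hab]
        refine (inv_unique (by rw [id_s, id_t]) ?_).symm
        rw [cmp_id (id_s _), id_t]
      exact e ▸ h.symm)
    (fun {X a b d} h h' => by
      have hab : a.left ≫ D.τ = b.left ≫ D.τ := (Over.w a).trans (Over.w b).symm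
      have := h.trans h'
      rwa [← hab, cmp_id (id_s _)] at this)
  have : Etale π.left := hπe
  have : Surjective π.left := hπs
  have hπτ : π.left ≫ Z.hom = D.τ := Over.w π
  let Q' := pullback G.s Z.hom
  let q : D.Q ⟶ Q' := pullback.map G.s D.τ G.s Z.hom (𝟙 G.R) π.left (𝟙 G.U) (by simp) (by simp [hπτ])
  have hq1 : q ≫ pullback.fst G.s Z.hom = D.pr := by simp [q]
  have hq2 : q ≫ pullback.snd G.s Z.hom = D.sn ≫ π.left := by simp [q]
  have sqq : IsPullback q D.sn (pullback.snd G.s Z.hom) π.left := IsPullback.of_right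
    (by rw [hq1, hπτ]; exact IsPullback.of_hasPullback G.s D.τ) hq2 (IsPullback.of_hasPullback G.s Z.hom)
  have : Etale q := MorphismProperty.of_isPullback (P := @Etale) sqq.flip hπe
  let P' : Q'.Opens := ⟨q '' (D.P : Set D.Q), q.isOpenMap _ D.P.2⟩
  have hsat : ∀ z z' : D.Q, q z = q z' → z ∈ D.P → z' ∈ D.P := by
    intro z z' h hz
    obtain ⟨w, rfl, rfl⟩ := Scheme.Pullback.exists_preimage_pullback z z' h
    let X : Over G.U := Over.mk (pullback.fst q q ≫ D.sn ≫ D.τ)
    let a : X ⟶ T := CategoryTheory.Over.homMk (pullback.fst q q ≫ D.sn) (by simp [X, T])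
    have hπ' : (pullback.fst q q ≫ D.sn) ≫ π.left = (pullback.snd q q ≫ D.sn) ≫ π.left := by
      rw [Category.assoc, ← hq2, pullback.condition_assoc, hq2, Category.assoc]
    let b : X ⟶ T := CategoryTheory.Over.homMk (pullback.snd q q ≫ D.sn) (by
      show (pullback.snd q q ≫ D.sn) ≫ D.τ = pullback.fst q q ≫ D.sn ≫ D.τ
      rw [← hπτ, ← Category.assoc, ← hπ', Category.assoc, Category.assoc])
    have hab := (hπrel a b).1 (Over.OverMorphism.ext hπ')
    refine (hab.2.2 (𝟙 _) (pullback.fst q q) (pullback.snd q q) (Category.id_comp _).symm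
      (Category.id_comp _).symm ?_ w).1 hz
    have hp : pullback.fst q q ≫ D.pr = pullback.snd q q ≫ D.pr := by
      rw [← hq1, pullback.condition_assoc]
    rw [Category.id_comp, ← hp]
    refine cmp_id ?_
    rw [D.comp_pr_s]
    rfl
  have hpre : q ⁻¹ᵁ P' = D.P := TopologicalSpace.Opens.ext (Set.ext fun z =>
    ⟨fun ⟨z', hz', e⟩ => hsat z' z e hz', fun hz => ⟨z, hz, rfl⟩⟩)
  have hmem : ∀ a, idSection G D.τ a ∈ q ⁻¹ᵁ P' := by rw [hpre]; exact D.memP
  have hfin : IsFinite (P'.ι ≫ pullback.snd G.s Z.hom) := by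
    have : Flat π.left := inferInstance
    have : QuasiCompact π.left := by
      have : QuasiCompact (π.left ≫ Z.hom) := by rw [hπτ]; infer_instance
      exact QuasiCompact.of_comp π.left Z.hom
    have := Groth.Agent.EtFound.fpqc_isFinite.{u}
    refine MorphismProperty.of_isPullback_of_descendsAlong
      (Q := (@Surjective ⊓ @Flat ⊓ @QuasiCompact : MorphismProperty Scheme.{u}))
      ((isPullback_morphismRestrict q P').paste_vert sqq).flip ⟨⟨inferInstance, inferInstance⟩, inferInstance⟩ ?_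
    rw [hpre]
    exact D.finP
  let D' : Datum G :=
    { T := Z.left
      τ := Z.hom
      etaleτ := hZe
      P := P'
      finP := hfin
      memP := fun z => by
        obtain ⟨a, rfl⟩ := π.left.surjective z
        rw [← Scheme.Hom.comp_apply, show π.left ≫ idSection G Z.hom = idSection G D.τ ≫ q by
          apply pullback.hom_ext <;> simp [idSection, q, ← hπτ]
          exact (Category.id_comp _).symm, Scheme.Hom.comp_apply]
        exact hmem a }
  refine ⟨D', π.left, hπτ, hπe, hπs, ?_, hZsep, hpre⟩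
  intro X a b h
  let X₂ := pullback (pullback.fst a π.left ≫ b) π.left
  let k : X₂ ⟶ X := pullback.fst _ _ ≫ pullback.fst a π.left
  let a' : X₂ ⟶ D.T := pullback.fst _ _ ≫ pullback.snd a π.left
  let b' : X₂ ⟶ D.T := pullback.snd _ _
  have ha' : a' ≫ π.left = k ≫ a := by simp only [a', k, Category.assoc, pullback.condition]
  have hb' : b' ≫ π.left = k ≫ b := by
    simp only [b', k, Category.assoc]; exact pullback.condition.symm
  have : Epi k := Flat.epi_of_flat_of_surjective k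
  rw [← cancel_epi k, ← ha', ← hb']
  have hτ : a' ≫ D.τ = b' ≫ D.τ := by
    have hw : a ≫ Z.hom = b ≫ Z.hom := (id_t (G := G) (a ≫ Z.hom)).symm.trans h.2.1
    rw [← hπτ, reassoc_of% ha', reassoc_of% hb', hw]
  let Y : Over G.U := Over.mk (a' ≫ D.τ)
  refine congrArg Over.Hom.left ((hπrel (CategoryTheory.Over.homMk a' rfl : Y ⟶ T)
    (CategoryTheory.Over.homMk b' hτ.symm : Y ⟶ T)).2 ?_)
  refine ⟨id_s _, (id_t _).trans hτ, fun X' φ qa qb h1 h2 h3 ω => ?_⟩
  have := (h.comp k).2.2 φ (qa ≫ q) (qb ≫ q) ?_ ?_ ?_ ω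
  · have hq : ∀ z : D.Q, z ∈ D.P ↔ q z ∈ P' := fun z => by rw [← hpre]; rfl
    rw [hq, hq, ← Scheme.Hom.comp_apply, ← Scheme.Hom.comp_apply]
    exact this
  · show (qa ≫ q) ≫ pullback.snd G.s Z.hom = φ ≫ k ≫ a
    rw [Category.assoc, hq2, reassoc_of% h1]
    exact congrArg (φ ≫ ·) ha'
  · show (qb ≫ q) ≫ pullback.snd G.s Z.hom = φ ≫ k ≫ b
    rw [Category.assoc, hq2, reassoc_of% h2]
    exact congrArg (φ ≫ ·) hb'
  · show cmp G ((qb ≫ q) ≫ pullback.fst G.s Z.hom) (φ ≫ k ≫ (a ≫ Z.hom) ≫ G.e) =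
      (qa ≫ q) ≫ pullback.fst G.s Z.hom
    rw [Category.assoc qb, Category.assoc qa, hq1]
    refine Eq.trans ?_ h3
    congr 2
    show k ≫ (a ≫ Z.hom) ≫ G.e = (a' ≫ D.τ) ≫ G.e
    simp only [← Category.assoc]
    rw [← ha', Category.assoc a', hπτ]

end Groth.Agent.GrpdSplit.Datum
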