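import Groth.Agent.GrpdSplit.Main
import Groth.Prelude.Def_Dual3

/-!
# The three kinds of loops along which one splits
-/

set_option backward.isDefEq.respectTransparency false
set_option backward.isDefEq.respectTransparency.types false

universe u

open CategoryTheory CategoryTheory.Limits AlgebraicGeometry Grpd Groth.Agent.AlgStLib.QuotRestrict

namespace Groth.Agent.GrpdSplit

variable {S : Scheme.{u}} {G : GroupoidScheme S}

theorem c_s' : G.c ≫ G.s = pullback.snd G.s G.t ≫ G.s := by
  have := G.comp_s (pullback.fst G.s G.t) (pullback.snd G.s G.t) pullback.condition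
  rwa [pullback.lift_fst_snd, Category.id_comp] at this

theorem c_t' : G.c ≫ G.t = pullback.fst G.s G.t ≫ G.t := by
  have := G.comp_t (pullback.fst G.s G.t) (pullback.snd G.s G.t) pullback.condition
  rwa [pullback.lift_fst_snd, Category.id_comp] at this

theorem comp_identity {u : G.U} (w : ↥(pullback G.s G.t)) (hw : pullback.snd G.s G.t w = G.e u) :
    G.c w = pullback.fst G.s G.t w := by
  obtain ⟨z, rfl, -⟩ := Scheme.Pullback.exists_preimage_pullback (f := pullback.snd G.s G.t) (g := G.e) w u hw
  rw [← Scheme.Hom.comp_apply, ← Scheme.Hom.comp_apply]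
  have hb : (pullback.fst (pullback.snd G.s G.t) G.e ≫ pullback.snd G.s G.t) =
      pullback.snd (pullback.snd G.s G.t) G.e ≫ G.e := pullback.condition
  have key : pullback.fst (pullback.snd G.s G.t) G.e ≫ G.c =
      pullback.fst (pullback.snd G.s G.t) G.e ≫ pullback.fst G.s G.t := by
    have h : pullback.fst (pullback.snd G.s G.t) G.e ≫ G.c =
        cmp G (pullback.fst (pullback.snd G.s G.t) G.e ≫ pullback.fst G.s G.t)
          (pullback.fst (pullback.snd G.s G.t) G.e ≫ pullback.snd G.s G.t) := by
      rw [← comp_cmp _ pullback.condition, cmp_eq pullback.condition, pullback.lift_fst_snd, Category.id_comp]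
    rw [h, hb]
    refine cmp_id ?_
    have := congrArg (· ≫ G.t) hb
    simp only [Category.assoc, G.e_t, Category.comp_id] at this
    rw [Category.assoc, pullback.condition]
    exact this
  rw [key]

theorem stab_fst_s : pullback.fst G.j G.diag ≫ G.s = pullback.snd G.j G.diag := by
  have h := congrArg (· ≫ pullback.snd G.pU G.pU) (pullback.condition (f := G.j) (g := G.diag))
  simpa [GroupoidScheme.j, GroupoidScheme.diag] using h

theorem stab_fst_t : pullback.fst G.j G.diag ≫ G.t = pullback.snd G.j G.diag := by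
  have h := congrArg (· ≫ pullback.fst G.pU G.pU) (pullback.condition (f := G.j) (g := G.diag))
  simpa [GroupoidScheme.j, GroupoidScheme.diag] using h

theorem mem_range_stab {X : Scheme.{u}} (x : X ⟶ G.R) (h : x ≫ G.s = x ≫ G.t) (p : X) :
    x p ∈ Set.range (pullback.fst G.j G.diag) := by
  refine ⟨pullback.lift x (x ≫ G.s) ?_ p, ?_⟩
  · apply pullback.hom_ext <;> simp [GroupoidScheme.j, GroupoidScheme.diag, h]
  · rw [← Scheme.Hom.comp_apply, pullback.lift_fst]

theorem stab_comp_iff (w : ↥(pullback G.s G.t))
    (hw : pullback.snd G.s G.t w ∈ Set.range (pullback.fst G.j G.diag)) :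
    pullback.fst G.s G.t w ∈ Set.range (pullback.fst G.j G.diag) ↔
      G.c w ∈ Set.range (pullback.fst G.j G.diag) := by
  have key : ∀ {X : Scheme.{u}} (v : X ⟶ pullback G.s G.t),
      (v ≫ pullback.snd G.s G.t) ≫ G.s = (v ≫ pullback.snd G.s G.t) ≫ G.t →
      ((v ≫ pullback.fst G.s G.t) ≫ G.s = (v ≫ pullback.fst G.s G.t) ≫ G.t ↔
        (v ≫ G.c) ≫ G.s = (v ≫ G.c) ≫ G.t) := by
    intro X v hv
    simp only [Category.assoc] at hv ⊢
    rw [c_s', c_t', hv, ← pullback.condition]
  obtain ⟨g, hg⟩ := hw
  obtain ⟨z, rfl, -⟩ :=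
    Scheme.Pullback.exists_preimage_pullback (f := pullback.snd G.s G.t) (g := pullback.fst G.j G.diag) w g hg.symm
  let v := pullback.fst (pullback.snd G.s G.t) (pullback.fst G.j G.diag)
  have hv : (v ≫ pullback.snd G.s G.t) ≫ G.s = (v ≫ pullback.snd G.s G.t) ≫ G.t := by
    simp only [v, pullback.condition, Category.assoc, stab_fst_s, stab_fst_t]
  constructor
  · rintro ⟨g', hg'⟩
    obtain ⟨z', hz', -⟩ := Scheme.Pullback.exists_preimage_pullback (f := v ≫ pullback.fst G.s G.t)
      (g := pullback.fst G.j G.diag) z g' (by rw [Scheme.Hom.comp_apply]; exact hg'.symm)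
    let q := pullback.fst (v ≫ pullback.fst G.s G.t) (pullback.fst G.j G.diag)
    have hq := (key (q ≫ v) (by simpa only [Category.assoc] using congrArg (q ≫ ·) hv)).1 (by
      simp only [q, Category.assoc]
      rw [← Category.assoc v, ← Category.assoc v, pullback.condition_assoc, pullback.condition_assoc,
        stab_fst_s, stab_fst_t])
    have := mem_range_stab _ hq z'
    rwa [Category.assoc, Scheme.Hom.comp_apply, show q z' = z from hz', Scheme.Hom.comp_apply] at this
  · rintro ⟨g', hg'⟩
    obtain ⟨z', hz', -⟩ := Scheme.Pullback.exists_preimage_pullback (f := v ≫ G.c)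
      (g := pullback.fst G.j G.diag) z g' (by rw [Scheme.Hom.comp_apply]; exact hg'.symm)
    let q := pullback.fst (v ≫ G.c) (pullback.fst G.j G.diag)
    have hq := (key (q ≫ v) (by simpa only [Category.assoc] using congrArg (q ≫ ·) hv)).2 (by
      simp only [q, Category.assoc]
      rw [← Category.assoc v, ← Category.assoc v, pullback.condition_assoc, pullback.condition_assoc,
        stab_fst_s, stab_fst_t])
    have := mem_range_stab _ hq z'
    rwa [Category.assoc, Scheme.Hom.comp_apply, show q z' = z from hz', Scheme.Hom.comp_apply] at this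

theorem qf_of_dual3 [LocallyOfFiniteType G.s] {r : G.R} (h : Dual3.QuasiFiniteAt G.s r) :
    G.s.QuasiFiniteAt r :=
  (Scheme.Hom.quasiFiniteAt_iff_isOpen_singleton_asFiber).2 h

end Groth.Agent.GrpdSplit
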