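import Groth.Agent.GrpdSplit.Datum
import Groth.Agent.MorLib.ElemEtaleMulti
import Mathlib.AlgebraicGeometry.ZariskisMainTheorem

/-!
# Elementary neighbourhoods with a piece through finitely many arrows
-/

set_option backward.isDefEq.respectTransparency false
set_option backward.isDefEq.respectTransparency.types false

universe u

open CategoryTheory CategoryTheory.Limits AlgebraicGeometry Grpd

namespace Groth.Agent.GrpdSplit

theorem isFinite_iSup_ι {X Y : Scheme.{u}} (f : X ⟶ Y) [IsSeparated f] [LocallyOfFiniteType f]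
    {ι : Type} [Finite ι] (V : ι → X.Opens) (h : ∀ i, IsFinite ((V i).ι ≫ f)) :
    IsFinite ((⨆ i, V i).ι ≫ f) := by
  set W := ⨆ i, V i
  have hV : ∀ i, IsFinite ((W.ι ⁻¹ᵁ V i).ι ≫ W.ι ≫ f) := by
    intro i
    have hr : Set.range ((W.ι ⁻¹ᵁ V i).ι ≫ W.ι) = Set.range (V i).ι := by
      rw [Scheme.Hom.comp_base, TopCat.coe_comp, Set.range_comp, Scheme.Opens.range_ι, Scheme.Opens.range_ι]
      show W.ι '' (W.ι ⁻¹' (V i : Set X)) = V i
      rw [Set.image_preimage_eq_of_subset]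
      rw [Scheme.Opens.range_ι]
      exact le_iSup V i
    rw [← Category.assoc, ← IsOpenImmersion.isoOfRangeEq_hom_fac _ _ hr, Category.assoc]
    have := h i
    infer_instance
  have hsup : ⨆ i, W.ι ⁻¹ᵁ V i = ⊤ := by
    rw [← Scheme.Hom.preimage_iSup]
    exact W.ι_preimage_self
  have : LocallyQuasiFinite (W.ι ≫ f) :=
    IsZariskiLocalAtSource.of_iSup_eq_top (P := @LocallyQuasiFinite) _ hsup fun i => by
      have := hV i
      infer_instance
  have : UniversallyClosed (W.ι ≫ f) := ⟨fun {X' Y'} g p f' sq C hC => by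
    have e : f' '' C = ⋃ i, ((g ⁻¹ᵁ (W.ι ⁻¹ᵁ V i)).ι ≫ f') '' ((g ⁻¹ᵁ (W.ι ⁻¹ᵁ V i)).ι ⁻¹' C) := by
      ext y
      simp only [Set.mem_iUnion]
      constructor
      · rintro ⟨x, hx, rfl⟩
        have hm : g x ∈ (⨆ i, W.ι ⁻¹ᵁ V i : W.toScheme.Opens) := by rw [hsup]; trivial
        obtain ⟨i, hi⟩ := TopologicalSpace.Opens.mem_iSup.1 hm
        exact ⟨i, ⟨x, hi⟩, hx, rfl⟩
      · rintro ⟨i, x, hx, rfl⟩
        exact ⟨_, hx, rfl⟩
    rw [e]
    refine isClosed_iUnion_of_finite fun i => ?_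
    have := MorphismProperty.of_isPullback (P := @IsFinite)
      ((isPullback_morphismRestrict g (W.ι ⁻¹ᵁ V i)).paste_vert sq.flip) (hV i)
    exact ((g ⁻¹ᵁ (W.ι ⁻¹ᵁ V i)).ι ≫ f').isClosedMap _
      (hC.preimage (g ⁻¹ᵁ (W.ι ⁻¹ᵁ V i)).ι.continuous)⟩
  have : IsProper (W.ι ≫ f) := { }
  exact IsFinite.of_isProper_of_locallyQuasiFinite _

variable {S : Scheme.{u}} (G : GroupoidScheme S)

/-- A piece whose points over the base point are the points over a given finite set of arrows. -/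
theorem exists_datum [IsSeparated G.s] [LocallyOfFiniteType G.s] (u : G.U) (Sg : Set G.R)
    (hfin : Sg.Finite) (hs : ∀ r ∈ Sg, G.s r = u) (hqf : ∀ r ∈ Sg, G.s.QuasiFiniteAt r) (he : G.e u ∈ Sg) :
    ∃ (D : Datum G) (u₁ : D.T), IsAffine D.T ∧ D.τ u₁ = u ∧ IsIso (D.τ.residueFieldMap u₁) ∧
      ∀ z : D.Q, D.sn z = u₁ → (z ∈ D.P ↔ D.pr z ∈ Sg) := by
  obtain ⟨n, ⟨eqv⟩⟩ : ∃ n, Nonempty (Fin n ≃ Sg) := by
    have := hfin.fintype
    exact ⟨_, ⟨(Fintype.equivFin Sg).symm⟩⟩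
  obtain ⟨U₀, g, u₀, hg, V, v, hV⟩ := Groth.Agent.MorLib.EEF.exists_elem_nbhd_multi G.s u
    (fun i => (eqv i).1) (fun i => hs _ (eqv i).2) (fun i => hqf _ (eqv i).2)
  have := hg.etale
  set W := ⨆ i, V i
  have hWfin : IsFinite (W.ι ≫ pullback.snd G.s g) := isFinite_iSup_ι _ V fun i => (hV i).2.1
  have hW : ∀ z : ↥(pullback G.s g), pullback.snd G.s g z = u₀ → (z ∈ W ↔ pullback.fst G.s g z ∈ Sg) := by
    intro z hz
    constructor
    · intro h
      obtain ⟨i, hi⟩ := TopologicalSpace.Opens.mem_iSup.1 h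
      obtain ⟨-, -, -, huniq, hvx, -⟩ := hV i
      rw [huniq z hi hz, hvx]
      exact (eqv i).2
    · intro h
      obtain ⟨i, hi⟩ := eqv.surjective ⟨_, h⟩
      obtain ⟨hvV, -, hvu, -, hvx, -⟩ := hV i
      obtain ⟨w, -, -, -, hun⟩ := Groth.Agent.MorLib.EEF.exists_unique_point (IsPullback.of_hasPullback G.s g)
        (pullback.fst G.s g z) u₀ (by
          rw [← Scheme.Hom.comp_apply, pullback.condition, Scheme.Hom.comp_apply, hz]) hg.residue_bijective
      rw [hun z rfl hz, ← hun (v i) (by rw [hvx, hi]) hvu]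
      exact TopologicalSpace.Opens.mem_iSup.2 ⟨i, hvV⟩
  have hsec : idSection G g u₀ ∈ W := by
    refine (hW _ ?_).2 ?_
    · rw [← Scheme.Hom.comp_apply, idSection, pullback.lift_snd]; rfl
    · rw [← Scheme.Hom.comp_apply, idSection, pullback.lift_fst, Scheme.Hom.comp_apply]
      convert he
      exact hg.base_eq
  obtain ⟨A, hA, huA, hAW⟩ := exists_isAffineOpen_mem_and_subset (X := U₀) (x := u₀)
    (U := idSection G g ⁻¹ᵁ W) hsec
  let Q' := pullback G.s (A.ι ≫ g)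
  let q : Q' ⟶ pullback G.s g := pullback.map G.s (A.ι ≫ g) G.s g (𝟙 _) A.ι (𝟙 _) (by simp) (by simp)
  have sqq : IsPullback q (pullback.snd G.s (A.ι ≫ g)) (pullback.snd G.s g) A.ι := IsPullback.of_right
    (by simpa [q] using IsPullback.of_hasPullback G.s (A.ι ≫ g)) (by simp [q]) (IsPullback.of_hasPullback G.s g)
  let D : Datum G :=
    { T := A.toScheme
      τ := A.ι ≫ g
      etaleτ := inferInstance
      P := q ⁻¹ᵁ W
      finP := MorphismProperty.of_isPullback (P := @IsFinite)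
        ((isPullback_morphismRestrict q W).paste_vert sqq) hWfin
      memP := fun a => by
        show q (idSection G (A.ι ≫ g) a) ∈ W
        rw [← Scheme.Hom.comp_apply, show idSection G (A.ι ≫ g) ≫ q = A.ι ≫ idSection G g by
          apply pullback.hom_ext <;> simp [idSection, q]
          exact Category.id_comp _]
        exact hAW a.2 }
  refine ⟨D, ⟨u₀, huA⟩, hA, hg.base_eq, ?_, fun z hz => ?_⟩
  · show IsIso ((A.ι ≫ g).residueFieldMap ⟨u₀, huA⟩)
    rw [Scheme.residueFieldMap_comp]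
    have : IsIso (g.residueFieldMap (A.ι ⟨u₀, huA⟩)) :=
      (ConcreteCategory.isIso_iff_bijective _).mpr hg.residue_bijective
    infer_instance
  · show q z ∈ W ↔ _
    rw [hW (q z) (by
      rw [← Scheme.Hom.comp_apply, sqq.w, Scheme.Hom.comp_apply]
      exact congrArg A.ι hz)]
    rw [← Scheme.Hom.comp_apply, show q ≫ pullback.fst G.s g = pullback.fst G.s (A.ι ≫ g) by simp [q]]

end Groth.Agent.GrpdSplit
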