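import Groth.Agent.AlgStLib.GrpdQuotRestrict

/-!
# Restriction of a groupoid along a map to its objects
-/

set_option backward.isDefEq.respectTransparency false
set_option backward.isDefEq.respectTransparency.types false

universe u

open CategoryTheory CategoryTheory.Limits AlgebraicGeometry Grpd Groth.Agent.AlgStLib.QuotRestrict

namespace Groth.Agent.GrpdSplit

variable {S : Scheme.{u}}

/-- The restriction of a groupoid along a map to its objects. -/
theorem exists_restriction (G : GroupoidScheme S) {U' : Scheme.{u}} (f : U' ⟶ G.U) :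
    ∃ (G' : GroupoidScheme S) (φ : GroupoidScheme.Hom G' G) (i : G'.U ⟶ U'), IsIso i ∧ i ≫ f = φ.fU ∧
      IsPullback φ.fR G'.j G.j
        (pullback.map G'.pU G'.pU G.pU G.pU φ.fU φ.fU (𝟙 S)
          ((Category.comp_id _).trans φ.fU_over.symm) ((Category.comp_id _).trans φ.fU_over.symm)) := by
  let p := f ≫ G.pU
  let m : pullback p p ⟶ pullback G.pU G.pU :=
    pullback.map p p G.pU G.pU f f (𝟙 S) (Category.comp_id _) (Category.comp_id _)
  let R := pullback G.j m
  let ρ : R ⟶ G.R := pullback.fst G.j m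
  obtain ⟨t', ht'⟩ : ∃ t' : R ⟶ U', t' = pullback.snd G.j m ≫ pullback.fst p p := ⟨_, rfl⟩
  obtain ⟨s', hs'⟩ : ∃ s' : R ⟶ U', s' = pullback.snd G.j m ≫ pullback.snd p p := ⟨_, rfl⟩
  have hjt : G.j ≫ pullback.fst G.pU G.pU = G.t := pullback.lift_fst _ _ _
  have hjs : G.j ≫ pullback.snd G.pU G.pU = G.s := pullback.lift_snd _ _ _
  have hρt : ρ ≫ G.t = t' ≫ f := by
    rw [← hjt, ← Category.assoc ρ, pullback.condition]; simp [ht', m]
  have hρs : ρ ≫ G.s = s' ≫ f := by
    rw [← hjs, ← Category.assoc ρ, pullback.condition]; simp [hs', m]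
  have hts : t' ≫ p = s' ≫ p := by simp [ht', hs', pullback.condition]
  have hext : ∀ {X : Scheme.{u}} (x y : X ⟶ R), x ≫ t' = y ≫ t' → x ≫ s' = y ≫ s' → x ≫ ρ = y ≫ ρ → x = y :=
    fun x y h1 h2 h3 => pullback.hom_ext h3
      (pullback.hom_ext (by simpa [ht'] using h1) (by simpa [hs'] using h2))
  have hlift : ∀ {X : Scheme.{u}} (r : X ⟶ G.R) (b a : X ⟶ U'), r ≫ G.t = b ≫ f → r ≫ G.s = a ≫ f →
      ∃ x : X ⟶ R, x ≫ t' = b ∧ x ≫ s' = a ∧ x ≫ ρ = r := by
    intro X r b a ht hs
    have hp : b ≫ p = a ≫ p := by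
      show b ≫ f ≫ G.pU = a ≫ f ≫ G.pU
      rw [← reassoc_of% ht, ← reassoc_of% hs, G.t_over, G.s_over]
    have hj : r ≫ G.j = pullback.lift b a hp ≫ m := by
      apply pullback.hom_ext
      · rw [Category.assoc, hjt, ht, Category.assoc, pullback.lift_fst, pullback.lift_fst_assoc]
      · rw [Category.assoc, hjs, hs, Category.assoc, pullback.lift_snd, pullback.lift_snd_assoc]
    exact ⟨pullback.lift r (pullback.lift b a hp) hj,
      by rw [ht', pullback.lift_snd_assoc, pullback.lift_fst],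
      by rw [hs', pullback.lift_snd_assoc, pullback.lift_snd], pullback.lift_fst _ _ _⟩
  choose mk mk_t mk_s mk_ρ using @hlift
  let e' := mk (f ≫ G.e) (𝟙 U') (𝟙 U') (by rw [id_t, Category.id_comp]) (by rw [id_s, Category.id_comp])
  let i' := mk (ρ ≫ G.i) s' t' ((inv_t ρ).trans hρs) ((inv_s ρ).trans hρt)
  have hc : (pullback.fst s' t' ≫ ρ) ≫ G.s = (pullback.snd s' t' ≫ ρ) ≫ G.t := by
    rw [Category.assoc, hρs, pullback.condition_assoc, Category.assoc, hρt]
  let c' := mk (cmp G (pullback.fst s' t' ≫ ρ) (pullback.snd s' t' ≫ ρ)) (pullback.fst s' t' ≫ t')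
    (pullback.snd s' t' ≫ s') (by rw [cmp_t hc, Category.assoc, hρt, Category.assoc])
    (by rw [cmp_s hc, Category.assoc, hρs, Category.assoc])
  have hc' : ∀ {X : Scheme.{u}} (α β : X ⟶ R) (h : α ≫ s' = β ≫ t'),
      (pullback.lift α β h ≫ c') ≫ t' = α ≫ t' ∧ (pullback.lift α β h ≫ c') ≫ s' = β ≫ s' ∧
        (pullback.lift α β h ≫ c') ≫ ρ = cmp G (α ≫ ρ) (β ≫ ρ) := by
    intro X α β h
    refine ⟨by rw [Category.assoc, mk_t, pullback.lift_fst_assoc],
      by rw [Category.assoc, mk_s, pullback.lift_snd_assoc], ?_⟩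
    rw [Category.assoc, mk_ρ, comp_cmp _ hc, pullback.lift_fst_assoc, pullback.lift_snd_assoc]
  have hcomp : ∀ {X : Scheme.{u}} (α β : X ⟶ R) (h : α ≫ s' = β ≫ t'), (α ≫ ρ) ≫ G.s = (β ≫ ρ) ≫ G.t := by
    intro X α β h
    rw [Category.assoc, hρs, reassoc_of% h, Category.assoc, hρt]
  have het : e' ≫ t' = 𝟙 U' := mk_t _ _ _ _ _
  have hes : e' ≫ s' = 𝟙 U' := mk_s _ _ _ _ _
  have heρ : e' ≫ ρ = f ≫ G.e := mk_ρ _ _ _ _ _
  have hit : i' ≫ t' = s' := mk_t _ _ _ _ _
  have his : i' ≫ s' = t' := mk_s _ _ _ _ _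
  have hiρ : i' ≫ ρ = ρ ≫ G.i := mk_ρ _ _ _ _ _
  let G' : GroupoidScheme S :=
    { U := U'
      R := R
      pU := p
      pR := s' ≫ p
      s := s'
      t := t'
      e := e'
      i := i'
      c := c'
      s_over := rfl
      t_over := hts
      comp_s := fun α β h => (hc' α β h).2.1
      comp_t := fun α β h => (hc' α β h).1
      assoc := fun α β γ h₁ h₂ => by
        have a1 : (pullback.lift α β h₁ ≫ c') ≫ s' = γ ≫ t' := (hc' α β h₁).2.1.trans h₂
        have a2 : α ≫ s' = (pullback.lift β γ h₂ ≫ c') ≫ t' := h₁.trans (hc' β γ h₂).1.symm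
        refine hext _ _ ?_ ?_ ?_
        · exact ((hc' _ _ a1).1.trans (hc' α β h₁).1).trans (hc' _ _ a2).1.symm
        · exact (hc' _ _ a1).2.1.trans ((hc' _ _ a2).2.1.trans (hc' β γ h₂).2.1).symm
        · rw [(hc' _ _ a1).2.2, (hc' _ _ a2).2.2, (hc' α β h₁).2.2, (hc' β γ h₂).2.2,
            cmp_assoc (hcomp α β h₁) (hcomp β γ h₂)]
      e_s := hes
      e_t := het
      comp_e := fun α => by
        refine hext _ _ ?_ ?_ ?_
        · exact (hc' _ _ _).1
        · rw [(hc' _ _ _).2.1]; simp only [Category.assoc, hes, Category.comp_id]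
        · rw [(hc' _ _ _).2.2]
          simp only [Category.assoc, heρ]
          rw [← reassoc_of% hρs]
          simpa only [Category.assoc] using cmp_id (r := α ≫ ρ) rfl
      e_comp := fun α => by
        refine hext _ _ ?_ ?_ ?_
        · rw [(hc' _ _ _).1]; simp only [Category.assoc, het, Category.comp_id]
        · exact (hc' _ _ _).2.1
        · rw [(hc' _ _ _).2.2]
          simp only [Category.assoc, heρ]
          rw [← reassoc_of% hρt]
          simpa only [Category.assoc] using id_cmp (r := α ≫ ρ) rfl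
      i_s := his
      i_t := hit
      comp_i := fun α => by
        refine hext _ _ ?_ ?_ ?_
        · rw [(hc' _ _ _).1]; simp only [Category.assoc, het, Category.comp_id]
        · rw [(hc' _ _ _).2.1]; simp only [Category.assoc, his, hes, Category.comp_id]
        · rw [(hc' _ _ _).2.2]
          simp only [Category.assoc, hiρ, heρ]
          rw [← reassoc_of% hρt]
          simpa only [Category.assoc] using cmp_inv (α ≫ ρ)
      i_comp := fun α => by
        refine hext _ _ ?_ ?_ ?_
        · rw [(hc' _ _ _).1]; simp only [Category.assoc, hit, het, Category.comp_id]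
        · rw [(hc' _ _ _).2.1]; simp only [Category.assoc, hes, Category.comp_id]
        · rw [(hc' _ _ _).2.2]
          simp only [Category.assoc, hiρ, heρ]
          rw [← reassoc_of% hρs]
          simpa only [Category.assoc] using inv_cmp (α ≫ ρ) }
  let φ : GroupoidScheme.Hom G' G :=
    { fU := f
      fR := ρ
      fU_over := rfl
      comm_s := hρs
      comm_t := hρt
      comm_c := fun α β h => ((hc' α β h).2.2).trans (cmp_eq _) }
  refine ⟨G', φ, 𝟙 U', inferInstance, Category.id_comp _, ?_⟩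
  have hj : G'.j = pullback.snd G.j m := by
    apply pullback.hom_ext
    · exact (pullback.lift_fst _ _ _).trans ht'
    · exact (pullback.lift_snd _ _ _).trans hs'
  rw [hj]
  exact IsPullback.of_hasPullback G.j m

end Groth.Agent.GrpdSplit
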