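import Groth.Agent.GrpdSplit.Inj
import Groth.Agent.GrpdSplit.Nbhd
import Groth.Agent.GrpdSplit.Restrict
import Groth.Agent.GrpdLib.InvOpen

/-!
# Splitting a groupoid near a point along finitely many loops
-/

set_option backward.isDefEq.respectTransparency false
set_option backward.isDefEq.respectTransparency.types false

universe u

open CategoryTheory CategoryTheory.Limits AlgebraicGeometry Grpd Groth.Agent.AlgStLib.QuotRestrict

namespace Groth.Agent.GrpdSplit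

variable {S : Scheme.{u}} {G : GroupoidScheme S}

namespace Datum

variable (D : Datum G) [IsSeparated G.s] [Flat G.s] [LocallyOfFinitePresentation G.s]

/-- The arrows identifying pieces, sent to the piece of their source. -/
theorem exists_toPiece (h : D.Inj) : ∃ k : D.E.toScheme ⟶ D.P.toScheme,
    k ≫ D.P.ι = D.E.ι ≫ pullback.fst (D.pr ≫ G.t) D.τ ∧ IsOpenImmersion k := by
  let fq := pullback.fst (D.pr ≫ G.t) D.τ
  have hsame := (D.same_iff D.E.ι).2 fun p => p.2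
  have hP : ∀ p, (D.E.ι ≫ fq) p ∈ D.P := by
    intro p
    let qb : D.E.toScheme ⟶ D.Q := (D.E.ι ≫ D.rb) ≫ idSection G D.τ
    have hqb : qb ≫ D.sn = D.E.ι ≫ D.rb := by simp [qb, idSection]
    refine (hsame.2.2 (𝟙 _) (D.E.ι ≫ fq) qb ?_ ?_ ?_ p).2 ?_
    · rw [Category.assoc, Category.id_comp]
    · rw [hqb, Category.id_comp]
    · have hqpr : qb ≫ D.pr = ((D.E.ι ≫ D.rb) ≫ D.τ) ≫ G.e := by simp [qb, idSection]
      rw [hqpr, Category.id_comp, id_cmp hsame.2.1]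
      exact (Category.assoc _ _ _).symm
    · rw [Scheme.Hom.comp_apply]
      exact D.memP _
  let k : D.E.toScheme ⟶ D.P.toScheme := IsOpenImmersion.lift D.P.ι (D.E.ι ≫ fq) (by
    rintro _ ⟨p, rfl⟩
    rw [Scheme.Opens.range_ι]
    exact hP p)
  have hk : k ≫ D.P.ι = D.E.ι ≫ fq := IsOpenImmersion.lift_fac _ _ _
  have : Etale fq := MorphismProperty.of_isPullback (P := @Etale)
    (IsPullback.of_hasPullback (D.pr ≫ G.t) D.τ).flip D.etaleτ
  have : Etale (D.E.ι ≫ fq) := inferInstance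
  have : Mono (D.E.ι ≫ fq) := ⟨fun {X} x y e => by
    have hx := hsame.comp x
    have hy := hsame.comp y
    have e1 : x ≫ D.E.ι ≫ D.ra = y ≫ D.E.ι ≫ D.ra := by
      simpa only [fq, ra, Category.assoc] using congrArg (· ≫ D.sn) e
    have e2 : x ≫ D.E.ι ≫ D.ρ = y ≫ D.E.ι ≫ D.ρ := by
      simpa only [fq, ρ, Category.assoc] using congrArg (· ≫ D.pr) e
    rw [e1, e2] at hx
    have e3 := h.eq hx hy
    rw [← cancel_mono D.E.ι]
    exact D.R2_ext (by simpa only [Category.assoc] using e1) (by simpa only [Category.assoc] using e3)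
      (by simpa only [Category.assoc] using e2)⟩
  have : Etale (k ≫ D.P.ι) := by rw [hk]; infer_instance
  have : Mono (k ≫ D.P.ι) := by rw [hk]; infer_instance
  have : Etale k := Etale.of_comp k D.P.ι
  have : Mono k := mono_of_mono k D.P.ι
  exact ⟨k, hk, IsOpenImmersion.of_flat_of_mono k⟩

/-- Composition of points of `E`. -/
theorem exists_comp_point {p q : D.R2} (hp : p ∈ D.E) (hq : q ∈ D.E) (h : D.rb p = D.ra q) :
    ∃ x ∈ D.E, D.ra x = D.ra p ∧ D.rb x = D.rb q := by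
  obtain ⟨z, hz1, hz2⟩ := Scheme.Pullback.exists_preimage_pullback (f := D.E.ι ≫ D.rb) (g := D.E.ι ≫ D.ra)
    ⟨p, hp⟩ ⟨q, hq⟩ (by rw [Scheme.Hom.comp_apply, Scheme.Hom.comp_apply]; exact h)
  have hsame := (D.same_iff D.E.ι).2 fun p => p.2
  let l₁ := pullback.fst (D.E.ι ≫ D.rb) (D.E.ι ≫ D.ra)
  let l₂ := pullback.snd (D.E.ι ≫ D.rb) (D.E.ι ≫ D.ra)
  have h1 := hsame.comp l₁
  have h2 := hsame.comp l₂
  rw [← show l₁ ≫ D.E.ι ≫ D.rb = l₂ ≫ D.E.ι ≫ D.ra from pullback.condition] at h2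
  have h3 := h1.trans h2
  obtain ⟨x, hx1, hx2, hx3⟩ := D.exists_lift h3.1 h3.2.1
  rw [← hx1, ← hx2, ← hx3] at h3
  refine ⟨x z, (D.same_iff x).1 h3 z, ?_, ?_⟩
  · rw [← Scheme.Hom.comp_apply, hx1, Scheme.Hom.comp_apply, show l₁ z = ⟨p, hp⟩ from hz1]; rfl
  · rw [← Scheme.Hom.comp_apply, hx2, Scheme.Hom.comp_apply, show l₂ z = ⟨q, hq⟩ from hz2]; rfl

/-- Inversion of points of `E`. -/
theorem exists_inv_point {p : D.R2} (hp : p ∈ D.E) : ∃ x ∈ D.E, D.ra x = D.rb p ∧ D.rb x = D.ra p := by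
  have h := ((D.same_iff D.E.ι).2 fun p => p.2).symm
  obtain ⟨x, hx1, hx2, hx3⟩ := D.exists_lift h.1 h.2.1
  rw [← hx1, ← hx2, ← hx3] at h
  refine ⟨x ⟨p, hp⟩, (D.same_iff x).1 h _, ?_, ?_⟩
  · rw [← Scheme.Hom.comp_apply, hx1]; rfl
  · rw [← Scheme.Hom.comp_apply, hx2]; rfl

/-- An affine open through a point fixed by `E`, saturated for `E`, over which `E` is finite. -/
theorem exists_saturated (h : D.Inj) (u₂ : D.T)
    (hcov : ∀ z ∈ D.P, D.sn z = u₂ → ∃ x ∈ D.E, pullback.fst (D.pr ≫ G.t) D.τ x = z ∧ D.rb x = u₂) :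
    ∃ W : D.T.Opens, IsAffineOpen W ∧ u₂ ∈ W ∧
      (∀ x ∈ D.E, D.ra x ∈ W → D.rb x ∈ W) ∧ IsFinite ((D.E.ι ≫ D.ra) ∣_ W) := by
  classical
  obtain ⟨k, hk, _⟩ := D.exists_toPiece h
  let π : D.P.toScheme ⟶ D.T := D.P.ι ≫ D.sn
  have : IsFinite π := D.finP
  have : Flat π := inferInstance
  have : LocallyOfFinitePresentation π := inferInstance
  have hEπ : D.E.ι ≫ D.ra = k ≫ π := by simp only [π, reassoc_of% hk, ra]
  -- the covered locus
  let T₁ : D.T.Opens := ⟨(π '' (Set.range k)ᶜ)ᶜ,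
    (π.isClosedMap _ k.isOpenEmbedding.isOpen_range.isClosed_compl).isOpen_compl⟩
  have huT : u₂ ∈ T₁ := by
    rintro ⟨z, hz, hzu⟩
    obtain ⟨x, hx, hxz, -⟩ := hcov z.1 z.2 hzu
    refine hz ⟨⟨x, hx⟩, D.P.ι.isOpenEmbedding.injective ?_⟩
    rw [← Scheme.Hom.comp_apply, hk]
    exact hxz
  let a := (D.E.ι ≫ D.ra) ∣_ T₁
  have ha : IsFinite a ∧ Flat a ∧ LocallyOfFinitePresentation a := by
    have : IsIso (k ∣_ (π ⁻¹ᵁ T₁)) := by
      refine (isIso_iff_isOpenImmersion_and_surjective _).mpr ⟨IsZariskiLocalAtTarget.restrict ‹IsOpenImmersion k› _, ⟨fun z => ?_⟩⟩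
      have hz : (π ⁻¹ᵁ T₁).ι z ∈ Set.range k := by
        by_contra hne
        exact z.2 ⟨_, hne, rfl⟩
      obtain ⟨x, hx⟩ := hz
      refine ⟨⟨x, show k x ∈ π ⁻¹ᵁ T₁ by rw [hx]; exact z.2⟩, (π ⁻¹ᵁ T₁).ι.isOpenEmbedding.injective ?_⟩
      rw [← Scheme.Hom.comp_apply, morphismRestrict_ι]
      exact hx
    have e : (k ≫ π) ∣_ T₁ = k ∣_ (π ⁻¹ᵁ T₁) ≫ π ∣_ T₁ := morphismRestrict_comp _ _ _
    have i1 : IsFinite (π ∣_ T₁) := IsZariskiLocalAtTarget.restrict ‹_› T₁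
    have i2 : Flat (π ∣_ T₁) := IsZariskiLocalAtTarget.restrict ‹_› T₁
    have i3 : LocallyOfFinitePresentation (π ∣_ T₁) := IsZariskiLocalAtTarget.restrict ‹_› T₁
    have key : ∀ f : D.E.toScheme ⟶ D.T, f = k ≫ π →
        IsFinite (f ∣_ T₁) ∧ Flat (f ∣_ T₁) ∧ LocallyOfFinitePresentation (f ∣_ T₁) := by
      rintro f rfl
      rw [e]
      exact ⟨inferInstance, inferInstance, inferInstance⟩
    exact key _ hEπ
  obtain ⟨_, _, _⟩ := ha
  let E₁ := (D.E.ι ≫ D.ra) ⁻¹ᵁ T₁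
  let b : E₁.toScheme ⟶ D.T := E₁.ι ≫ D.E.ι ≫ D.rb
  have hcore : ∀ V : D.T.Opens, ∃ C : D.T.Opens,
      ∀ w, w ∈ C ↔ w ∈ T₁ ∧ ∀ x ∈ D.E, D.ra x = w → D.rb x ∈ V := by
    intro V
    refine ⟨T₁.ι ''ᵁ ⟨(a '' (b ⁻¹' (V : Set D.T))ᶜ)ᶜ,
      (a.isClosedMap _ (V.isOpen.preimage b.continuous).isClosed_compl).isOpen_compl⟩, fun w => ?_⟩
    constructor
    · rintro ⟨w', hw', rfl⟩
      refine ⟨w'.2, fun x hx hxw => by_contra fun hne => hw' ?_⟩
      have hx1 : (⟨x, hx⟩ : D.E.toScheme) ∈ E₁ := by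
        show D.ra x ∈ T₁
        rw [hxw]; exact w'.2
      refine ⟨⟨⟨x, hx⟩, hx1⟩, hne, T₁.ι.isOpenEmbedding.injective ?_⟩
      rw [← Scheme.Hom.comp_apply, morphismRestrict_ι]
      exact hxw
    · rintro ⟨hwT, hw⟩
      refine ⟨⟨w, hwT⟩, ?_, rfl⟩
      rintro ⟨y, hy, hyw⟩
      refine hy (hw _ (E₁.ι y).2 ?_)
      have := congrArg T₁.ι hyw
      rw [← Scheme.Hom.comp_apply, morphismRestrict_ι] at this
      exact this
  have horb : ∀ x ∈ D.E, D.ra x = u₂ → D.rb x = u₂ := by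
    intro x hx hxu
    have hz : D.sn (pullback.fst (D.pr ≫ G.t) D.τ x) = u₂ := by rw [← Scheme.Hom.comp_apply]; exact hxu
    have hzP : pullback.fst (D.pr ≫ G.t) D.τ x ∈ D.P := by
      have := (k ⟨x, hx⟩).2
      rwa [show (k ⟨x, hx⟩).1 = pullback.fst (D.pr ≫ G.t) D.τ x by
        show D.P.ι (k ⟨x, hx⟩) = _
        rw [← Scheme.Hom.comp_apply, hk]; rfl] at this
    obtain ⟨x', hx', he, hb⟩ := hcov _ hzP hz
    have : k ⟨x', hx'⟩ = k ⟨x, hx⟩ := D.P.ι.isOpenEmbedding.injective (by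
      rw [← Scheme.Hom.comp_apply, ← Scheme.Hom.comp_apply, hk]; exact he)
    have e : x' = x := congrArg Subtype.val (k.isOpenEmbedding.injective this)
    exact e ▸ hb
  obtain ⟨V, hV, huV, hVT⟩ := exists_isAffineOpen_mem_and_subset (X := D.T) (x := u₂) (U := T₁) huT
  obtain ⟨C, hC⟩ := hcore V
  have huC : u₂ ∈ C := (hC _).2 ⟨huT, fun x hx hxu => by rw [horb x hx hxu]; exact huV⟩
  obtain ⟨f, hf, hfC⟩ := Groth.Agent.GrpdLib.exists_basicOpen_of_finite hV (Set.finite_singleton u₂) C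
    (Set.singleton_subset_iff.2 huV) (Set.singleton_subset_iff.2 huC)
  let B := D.T.basicOpen f
  have hBT : B ≤ T₁ := (D.T.basicOpen_le f).trans hVT
  let D₁ : T₁.toScheme.Opens := T₁.ι ⁻¹ᵁ B
  have hD₁ : IsAffineOpen D₁ := (hV.basicOpen f).preimage_of_isOpenImmersion T₁.ι
    (by rw [Scheme.Opens.opensRange_ι]; exact hBT)
  have hle : a ⁻¹ᵁ D₁ ≤ b ⁻¹ᵁ V := by
    intro y hy
    have hyB : T₁.ι (a y) ∈ B := hy
    rw [← Scheme.Hom.comp_apply, morphismRestrict_ι] at hyB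
    exact ((hC _).1 (hfC hyB)).2 _ (E₁.ι y).2 rfl
  obtain ⟨N, hN⟩ := Groth.Agent.GrpdLib.exists_norm_basicOpen a hD₁ (b.appLE V (a ⁻¹ᵁ D₁) hle f)
  let W := T₁.ι ''ᵁ T₁.toScheme.basicOpen N
  have hW : ∀ w, w ∈ W ↔ w ∈ B ∧ ∀ x ∈ D.E, D.ra x = w → D.rb x ∈ B := by
    intro w
    constructor
    · rintro ⟨w', hw', rfl⟩
      obtain ⟨h1, h2⟩ := (hN w').1 hw'
      refine ⟨h1, fun x hx hxw => ?_⟩
      have hx1 : (⟨x, hx⟩ : D.E.toScheme) ∈ E₁ := by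
        show D.ra x ∈ T₁
        rw [hxw]; exact w'.2
      have := h2 ⟨⟨x, hx⟩, hx1⟩ (T₁.ι.isOpenEmbedding.injective (by
        rw [← Scheme.Hom.comp_apply, morphismRestrict_ι]
        exact hxw))
      rw [Scheme.basicOpen_appLE] at this
      exact this.2
    · rintro ⟨hwB, hw⟩
      refine ⟨⟨w, hBT hwB⟩, (hN _).2 ⟨hwB, fun y hy => ?_⟩, rfl⟩
      rw [Scheme.basicOpen_appLE]
      refine ⟨by show a y ∈ D₁; rw [hy]; exact hwB, hw _ (E₁.ι y).2 ?_⟩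
      have := congrArg T₁.ι hy
      rw [← Scheme.Hom.comp_apply, morphismRestrict_ι] at this
      exact this
  refine ⟨W, (hD₁.basicOpen N).image_of_isOpenImmersion T₁.ι,
    (hW _).2 ⟨hf rfl, fun x hx hxu => by rw [horb x hx hxu]; exact hf rfl⟩, fun x hx hxW => ?_, ?_⟩
  · refine (hW _).2 ⟨((hW _).1 hxW).2 x hx rfl, fun y hy hyx => ?_⟩
    obtain ⟨z, hz, hz1, hz2⟩ := D.exists_comp_point hx hy hyx.symm
    rw [← hz2]
    exact ((hW _).1 hxW).2 z hz hz1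
  · have hfin : IsFinite (((D.E.ι ≫ D.ra) ∣_ T₁) ∣_ T₁.toScheme.basicOpen N) :=
      IsZariskiLocalAtTarget.restrict ‹IsFinite a› _
    exact (MorphismProperty.arrow_mk_iso_iff @IsFinite
      (morphismRestrictRestrict (D.E.ι ≫ D.ra) T₁ (T₁.toScheme.basicOpen N))).1 hfin

end Datum

/-- A groupoid is split near a point along a finite translation closed set of loops. -/
theorem exists_split [IsAffine G.U] [IsSeparated G.s] [Flat G.s] [LocallyOfFinitePresentation G.s]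
    (u : G.U) (Sg : Set G.R) (hfin : Sg.Finite) (hloop : ∀ r ∈ Sg, G.s r = u ∧ G.t r = u)
    (hqf : ∀ r ∈ Sg, G.s.QuasiFiniteAt r) (he : G.e u ∈ Sg)
    (hcomp : ∀ w : ↥(pullback G.s G.t), pullback.snd G.s G.t w ∈ Sg →
      (pullback.fst G.s G.t w ∈ Sg ↔ G.c w ∈ Sg)) :
    ∃ (G' : GroupoidScheme S) (φ : GroupoidScheme.Hom G' G) (u' : ↥G'.U),
      IsAffine G'.U ∧ Etale φ.fU ∧ φ.fU u' = u ∧ IsIso (φ.fU.residueFieldMap u') ∧
      IsPullback φ.fR G'.j G.j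
        (pullback.map G'.pU G'.pU G.pU G.pU φ.fU φ.fU (𝟙 S)
          ((Category.comp_id _).trans φ.fU_over.symm) ((Category.comp_id _).trans φ.fU_over.symm)) ∧
      ∃ (P : Scheme.{u}) (ιP : P ⟶ G'.R), IsOpenImmersion ιP ∧
        (∃ eP : G'.U ⟶ P, eP ≫ ιP = G'.e) ∧ (∃ iP : P ⟶ P, iP ≫ ιP = ιP ≫ G'.i) ∧
        (∃ cP : pullback (ιP ≫ G'.s) (ιP ≫ G'.t) ⟶ P,
          cP ≫ ιP = pullback.map (ιP ≫ G'.s) (ιP ≫ G'.t) G'.s G'.t ιP ιP (𝟙 G'.U)
            (Category.comp_id _) (Category.comp_id _) ≫ G'.c) ∧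
        IsFinite (ιP ≫ G'.s) ∧ IsFinite (ιP ≫ G'.t) ∧
        ∀ r' : ↥G'.R, G'.s r' = u' → G'.t r' = u' → φ.fR r' ∈ Sg → ∃ p : ↥P, ιP p = r' := by
  obtain ⟨D₀, u₁, hT₀, hu₁, hres₁, hP₀⟩ := exists_datum G u Sg hfin (fun r hr => (hloop r hr).1) hqf he
  have : IsAffine D₀.T := hT₀
  obtain ⟨D, π, hπ, hπe, hπs, hinj, -, hpre⟩ := D₀.exists_inj
  let u₂ := π u₁
  have hu₂ : D.τ u₂ = u := by rw [← Scheme.Hom.comp_apply, hπ, hu₁]
  have hres₂ : IsIso (D.τ.residueFieldMap u₂) := by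
    have hb : Function.Bijective ((π ≫ D.τ).residueFieldMap u₁) := by
      have key : ∀ f : D₀.T ⟶ G.U, f = D₀.τ → IsIso (f.residueFieldMap u₁) := by rintro f rfl; exact hres₁
      exact ((ConcreteCategory.isIso_iff_bijective _).1 (key _ hπ))
    rw [Scheme.residueFieldMap_comp] at hb
    refine (ConcreteCategory.isIso_iff_bijective _).2 ⟨RingHom.injective _, fun y => ?_⟩
    obtain ⟨x, hx⟩ := hb.2 (π.residueFieldMap u₁ y)
    exact ⟨x, (π.residueFieldMap u₁).hom.injective hx⟩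
  -- points of the piece over the chosen point
  have hP : ∀ z : D.Q, D.sn z = u₂ → (z ∈ D.P ↔ D.pr z ∈ Sg) := by
    intro z hz
    let q : D₀.Q ⟶ D.Q := pullback.map G.s D₀.τ G.s D.τ (𝟙 G.R) π (𝟙 G.U) (by simp) (by simp [hπ])
    have hq1 : q ≫ D.pr = D₀.pr := by simp [q]
    have hq2 : q ≫ D.sn = D₀.sn ≫ π := by simp [q]
    have sqq : IsPullback q D₀.sn D.sn π := IsPullback.of_right
      (by rw [hq1, hπ]; exact IsPullback.of_hasPullback G.s D₀.τ) hq2 (IsPullback.of_hasPullback G.s D.τ)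
    obtain ⟨z₀, hz₀, hz₀u⟩ := Scheme.exists_preimage_of_isPullback sqq z u₁ hz
    rw [← hz₀, ← Scheme.Hom.comp_apply, hq1, ← hP₀ z₀ hz₀u, ← hpre]
    rfl
  have hE : ∀ x : D.R2, D.ra x = u₂ → D.rb x = u₂ → D.ρ x ∈ Sg → x ∈ D.E := by
    intro x hxa hxb hx
    rw [D.mem_E_iff]
    intro w hw
    have h1 : D.sn (pullback.snd D.ra D.sn w) = u₂ := by
      rw [← Scheme.Hom.comp_apply, ← pullback.condition, Scheme.Hom.comp_apply, hw, hxa]
    have h2 : D.sn (D.χ w) = u₂ := by rw [← Scheme.Hom.comp_apply, D.χ_sn, Scheme.Hom.comp_apply, hw, hxb]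
    rw [hP _ h1, hP _ h2]
    have e : (D.χ ≫ D.pr) ≫ G.s = (pullback.fst D.ra D.sn ≫ D.ρ) ≫ G.t :=
      Datum.comp_of_over D.ρ_t D.χ_sn
    let v := pullback.lift _ _ e w
    have hv1 : pullback.fst G.s G.t v = D.pr (D.χ w) := by
      rw [← Scheme.Hom.comp_apply, pullback.lift_fst]; rfl
    have hv2 : pullback.snd G.s G.t v = D.ρ x := by
      rw [← Scheme.Hom.comp_apply, pullback.lift_snd, Scheme.Hom.comp_apply, hw]
    have hv3 : G.c v = D.pr (pullback.snd D.ra D.sn w) := by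
      rw [← Scheme.Hom.comp_apply, ← cmp_eq e, D.cmp_χ]; rfl
    rw [← hv1, ← hv3]
    exact (hcomp v (hv2 ▸ hx)).symm
  have hcov : ∀ z ∈ D.P, D.sn z = u₂ → ∃ x ∈ D.E, pullback.fst (D.pr ≫ G.t) D.τ x = z ∧ D.rb x = u₂ := by
    intro z hz hzu
    have hr := (hP z hzu).1 hz
    obtain ⟨x, hx1, hx2⟩ := Scheme.Pullback.exists_preimage_pullback (f := D.pr ≫ G.t) (g := D.τ) z u₂
      (by rw [Scheme.Hom.comp_apply, (hloop _ hr).2, hu₂])
    refine ⟨x, hE x ?_ hx2 ?_, hx1, hx2⟩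
    · rw [Scheme.Hom.comp_apply, hx1, hzu]
    · rw [Scheme.Hom.comp_apply, hx1]; exact hr
  obtain ⟨W, hWa, huW, hWinv, hWfin⟩ := D.exists_saturated hinj u₂ hcov
  obtain ⟨G', φ, i, _, hiφ, hsq⟩ := exists_restriction G (W.ι ≫ D.τ)
  let u' : G'.U := inv i ⟨u₂, huW⟩
  have hiu : i u' = ⟨u₂, huW⟩ := by
    rw [← Scheme.Hom.comp_apply, IsIso.inv_hom_id]; rfl
  let α : G'.U ⟶ D.T := i ≫ W.ι
  have hα : α ≫ D.τ = φ.fU := by rw [← hiφ, Category.assoc]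
  obtain ⟨κ, hκa, hκb, hκρ⟩ := D.exists_lift (a := G'.s ≫ α) (b := G'.t ≫ α) (r := φ.fR)
    (by rw [φ.comm_s, Category.assoc, hα]) (by rw [φ.comm_t, Category.assoc, hα])
  let P : G'.R.Opens := κ ⁻¹ᵁ D.E
  have hmem : ∀ {X : Scheme.{u}} (x : X ⟶ G'.R),
      D.Same (x ≫ G'.s ≫ α) (x ≫ G'.t ≫ α) (x ≫ φ.fR) ↔ ∀ p, x p ∈ P := by
    intro X x
    have h := D.same_iff (x ≫ κ)
    simp only [Category.assoc, hκa, hκb, hκρ] at h
    exact h
  have hext : ∀ {X : Scheme.{u}} (x y : X ⟶ G'.R), x ≫ G'.s = y ≫ G'.s → x ≫ G'.t = y ≫ G'.t →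
      x ≫ φ.fR = y ≫ φ.fR → x = y := fun x y h1 h2 h3 => hsq.hom_ext h3 (pullback.hom_ext
        (by simpa [GroupoidScheme.j] using h2) (by simpa [GroupoidScheme.j] using h1))
  have hα' : ∀ {X : Scheme.{u}} (a : X ⟶ G'.U), (a ≫ α) ≫ D.τ = a ≫ φ.fU := fun a => by
    rw [Category.assoc, hα]
  have heφ : G'.e ≫ φ.fR = φ.fU ≫ G.e := by
    have hc := φ.comm_c G'.e G'.e (by rw [G'.e_s, G'.e_t])
    have h₀ : pullback.lift G'.e G'.e (by rw [G'.e_s, G'.e_t]) ≫ G'.c = G'.e := by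
      rw [← cmp_eq]
      exact (congrArg (cmp G' G'.e) (Category.id_comp G'.e).symm).trans (cmp_id G'.e_s)
    rw [h₀, ← cmp_eq] at hc
    have h₁ : (G'.e ≫ φ.fR) ≫ G.s = φ.fU := by rw [Category.assoc, φ.comm_s, reassoc_of% G'.e_s]
    have h₂ : (G'.e ≫ φ.fR) ≫ G.t = φ.fU := by rw [Category.assoc, φ.comm_t, reassoc_of% G'.e_t]
    have := congrArg (cmp G ((G'.e ≫ φ.fR) ≫ G.i)) hc
    rw [inv_cmp, h₁, ← cmp_assoc (inv_s _) (h₁.trans h₂.symm), inv_cmp, h₁, id_cmp h₂] at this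
    exact this.symm
  have hiφ' : G'.i ≫ φ.fR = φ.fR ≫ G.i := by
    have hc := φ.comm_c (𝟙 G'.R) G'.i (by rw [Category.id_comp, G'.i_t])
    have h₀ := G'.comp_i (𝟙 G'.R)
    simp only [Category.id_comp] at h₀
    rw [h₀, ← cmp_eq, Category.assoc, heφ, Category.id_comp, ← Category.assoc, ← φ.comm_t] at hc
    exact inv_unique (by rw [φ.comm_s, Category.assoc, φ.comm_t, reassoc_of% G'.i_t]) hc.symm
  have heP : ∀ p, G'.e p ∈ P := (hmem G'.e).1 (by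
    rw [reassoc_of% G'.e_s, reassoc_of% G'.e_t, heφ, ← hα]
    exact Datum.Same.refl α)
  have hPι := (hmem P.ι).2 fun p => p.2
  have hiP : ∀ p, (P.ι ≫ G'.i) p ∈ P := (hmem (P.ι ≫ G'.i)).1 (by
    have h := hPι.symm
    rw [Category.assoc, Category.assoc, Category.assoc, reassoc_of% G'.i_s, reassoc_of% G'.i_t, hiφ']
    rwa [← Category.assoc] )
  let cl := pullback.map (P.ι ≫ G'.s) (P.ι ≫ G'.t) G'.s G'.t P.ι P.ι (𝟙 G'.U)
    (Category.comp_id _) (Category.comp_id _) ≫ G'.c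
  have hcP : ∀ p, cl p ∈ P := (hmem cl).1 (by
    let l₁ := pullback.fst (P.ι ≫ G'.s) (P.ι ≫ G'.t) ≫ P.ι
    let l₂ := pullback.snd (P.ι ≫ G'.s) (P.ι ≫ G'.t) ≫ P.ι
    have hl : l₁ ≫ G'.s = l₂ ≫ G'.t := by simp only [l₁, l₂, Category.assoc]; exact pullback.condition
    have ecl : cl = cmp G' l₁ l₂ := by
      rw [cmp_eq hl]
    have g₁ := (hmem l₁).2 fun p => (pullback.fst (P.ι ≫ G'.s) (P.ι ≫ G'.t) p).2
    have g₂ := (hmem l₂).2 fun p => (pullback.snd (P.ι ≫ G'.s) (P.ι ≫ G'.t) p).2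
    rw [reassoc_of% hl] at g₁
    have g := g₂.trans g₁
    have hφ : cl ≫ φ.fR = cmp G (l₁ ≫ φ.fR) (l₂ ≫ φ.fR) := by
      rw [ecl, cmp_eq hl, φ.comm_c l₁ l₂ hl, ← cmp_eq]
    rw [hφ, ← Category.assoc cl, ← Category.assoc cl, ecl, cmp_s hl, cmp_t hl, Category.assoc, Category.assoc]
    exact g)
  have hlift : ∀ {X : Scheme.{u}} (x : X ⟶ G'.R), (∀ p, x p ∈ P) → ∃ y : X ⟶ P.toScheme, y ≫ P.ι = x :=
    fun x hx => ⟨IsOpenImmersion.lift P.ι x (by rintro _ ⟨p, rfl⟩; rw [Scheme.Opens.range_ι]; exact hx p),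
      IsOpenImmersion.lift_fac _ _ _⟩
  -- finiteness of the source
  let Es := (D.E.ι ≫ D.ra) ∣_ W
  let EW := (D.E.ι ≫ D.ra) ⁻¹ᵁ W
  have hsfin : IsFinite (P.ι ≫ G'.s) := by
    have hαW : ∀ y : G'.U, α y ∈ W := fun y => (i y).2
    let g₁ : P.toScheme ⟶ D.E.toScheme := κ ∣_ D.E
    have hg₁ : g₁ ≫ D.E.ι = P.ι ≫ κ := morphismRestrict_ι _ _
    let g₂ : P.toScheme ⟶ EW.toScheme := IsOpenImmersion.lift EW.ι g₁ (by
      rintro _ ⟨p, rfl⟩
      rw [Scheme.Opens.range_ι]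
      show (g₁ ≫ D.E.ι ≫ D.ra) p ∈ W
      rw [reassoc_of% hg₁, hκa]
      exact hαW _)
    have hg₂ : g₂ ≫ EW.ι = g₁ := IsOpenImmersion.lift_fac _ _ _
    let a₀ : EW.toScheme ⟶ D.T := EW.ι ≫ D.E.ι ≫ D.ra
    let b₀ : EW.toScheme ⟶ D.T := EW.ι ≫ D.E.ι ≫ D.rb
    let bW : EW.toScheme ⟶ W.toScheme := IsOpenImmersion.lift W.ι b₀ (by
      rintro _ ⟨p, rfl⟩
      rw [Scheme.Opens.range_ι]
      exact hWinv _ (EW.ι p).2 p.2)
    have hbW : (bW ≫ inv i) ≫ α = b₀ := by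
      simp only [α, Category.assoc, IsIso.inv_hom_id_assoc]
      exact IsOpenImmersion.lift_fac _ _ _
    have haW : (Es ≫ inv i) ≫ α = a₀ := by
      simp only [α, Category.assoc, IsIso.inv_hom_id_assoc]
      exact morphismRestrict_ι _ _
    obtain ⟨g₃, hg₃⟩ : ∃ g₃ : EW.toScheme ⟶ G'.R, g₃ ≫ κ = EW.ι ≫ D.E.ι := by
      have h : (EW.ι ≫ D.E.ι ≫ D.ρ) ≫ G.j = pullback.lift (bW ≫ inv i) (Es ≫ inv i) (by
          have e : ∀ x : EW.toScheme ⟶ G'.U, x ≫ G'.pU = ((x ≫ α) ≫ D.τ) ≫ G.pU := fun x => by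
            rw [← φ.fU_over, hα' x, Category.assoc]
          rw [e, e, hbW, haW]
          simp only [a₀, b₀, Category.assoc]
          rw [← reassoc_of% D.ρ_s, ← reassoc_of% D.ρ_t, G.s_over, G.t_over]) ≫
          pullback.map G'.pU G'.pU G.pU G.pU φ.fU φ.fU (𝟙 S)
            ((Category.comp_id _).trans φ.fU_over.symm) ((Category.comp_id _).trans φ.fU_over.symm) := by
        apply pullback.hom_ext
        · simp only [GroupoidScheme.j, Category.assoc, pullback.lift_fst, pullback.lift_fst_assoc]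
          rw [← hα' (bW ≫ inv i) |>.trans (Category.assoc _ _ _), hbW]
          simp only [b₀, Category.assoc]
          rw [← D.ρ_t, Category.assoc]
        · simp only [GroupoidScheme.j, Category.assoc, pullback.lift_snd, pullback.lift_snd_assoc]
          rw [← hα' (Es ≫ inv i) |>.trans (Category.assoc _ _ _), haW]
          simp only [a₀, Category.assoc]
          rw [← D.pr_s]
      obtain ⟨g₃, h1, h2⟩ := hsq.exists_lift _ _ h
      have h3 := congrArg (· ≫ pullback.fst G'.pU G'.pU) h2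
      have h4 := congrArg (· ≫ pullback.snd G'.pU G'.pU) h2
      simp only [GroupoidScheme.j, Category.assoc, pullback.lift_fst, pullback.lift_snd] at h3 h4
      refine ⟨g₃, D.R2_ext ?_ ?_ ?_⟩
      · rw [Category.assoc, hκa, ← Category.assoc, h4]
        exact haW.trans (Category.assoc _ _ _).symm
      · rw [Category.assoc, hκb, ← Category.assoc, h3]
        exact hbW.trans (Category.assoc _ _ _).symm
      · rw [Category.assoc, hκρ, h1, Category.assoc]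
    obtain ⟨g₄, hg₄⟩ := hlift g₃ fun p => by
      show κ (g₃ p) ∈ D.E
      rw [← Scheme.Hom.comp_apply, hg₃]
      exact (EW.ι p).2
    have : Mono κ := ⟨fun x y e => by
      have e1 := congrArg (· ≫ D.ra) e
      have e2 := congrArg (· ≫ D.rb) e
      have e3 := congrArg (· ≫ D.ρ) e
      simp only [Category.assoc, hκa, hκb, hκρ] at e1 e2 e3
      exact hext x y ((cancel_mono α).1 (by simpa only [Category.assoc] using e1))
        ((cancel_mono α).1 (by simpa only [Category.assoc] using e2)) e3⟩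
    have hinv₁ : g₄ ≫ g₂ = 𝟙 _ := by
      rw [← cancel_mono EW.ι, Category.assoc, hg₂, ← cancel_mono D.E.ι, Category.assoc, hg₁,
        reassoc_of% hg₄, hg₃, Category.id_comp]
    have hinv₂ : g₂ ≫ g₄ = 𝟙 _ := by
      rw [← cancel_mono P.ι, Category.assoc, hg₄, ← cancel_mono κ, Category.assoc, hg₃, reassoc_of% hg₂,
        hg₁, Category.id_comp]
    have : IsIso g₂ := ⟨g₄, hinv₂, hinv₁⟩
    have e : P.ι ≫ G'.s = g₂ ≫ Es ≫ inv i := by
      rw [← cancel_mono α, Category.assoc P.ι, Category.assoc g₂, haW, reassoc_of% hg₂, reassoc_of% hg₁, hκa]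
    rw [e]
    infer_instance
  obtain ⟨eP, heP'⟩ := hlift G'.e heP
  obtain ⟨iP, hiP'⟩ := hlift (P.ι ≫ G'.i) hiP
  obtain ⟨cP, hcP'⟩ := hlift cl hcP
  have hii : G'.i ≫ G'.i = 𝟙 G'.R := by
    refine (inv_unique (r := G'.i) (z := 𝟙 G'.R) ?_ ?_).symm
    · rw [G'.i_s, Category.id_comp]
    · have := G'.i_comp (𝟙 G'.R)
      simp only [Category.id_comp] at this
      rw [cmp_eq (by rw [G'.i_s, Category.id_comp]), this, G'.i_t]
  have : IsIso iP := ⟨iP, by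
    rw [← cancel_mono P.ι, Category.assoc, hiP', reassoc_of% hiP', hii, Category.comp_id, Category.id_comp],
    by rw [← cancel_mono P.ι, Category.assoc, hiP', reassoc_of% hiP', hii, Category.comp_id, Category.id_comp]⟩
  have htfin : IsFinite (P.ι ≫ G'.t) := by
    rw [← G'.i_s, ← reassoc_of% hiP']
    infer_instance
  have haff : IsAffine G'.U := by
    have : IsAffine W.toScheme := hWa
    exact IsAffine.of_isIso i
  refine ⟨G', φ, u', haff, ?_, ?_, ?_, hsq, P.toScheme, P.ι, inferInstance, ⟨eP, heP'⟩, ⟨iP, hiP'⟩,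
    ⟨cP, hcP'⟩, hsfin, htfin, fun r' hs ht hr => ?_⟩
  · rw [← hiφ]; infer_instance
  · rw [← hiφ, Scheme.Hom.comp_apply, hiu]; exact hu₂
  · have hu' : α u' = u₂ := by rw [Scheme.Hom.comp_apply, hiu]; rfl
    have : IsIso (D.τ.residueFieldMap (α u')) := by rw [hu']; exact hres₂
    rw [← hα, Scheme.residueFieldMap_comp]
    infer_instance
  · refine ⟨⟨r', ?_⟩, rfl⟩
    have hu' : α u' = u₂ := by rw [Scheme.Hom.comp_apply, hiu]; rfl
    refine hE (κ r') ?_ ?_ ?_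
    · rw [← Scheme.Hom.comp_apply, hκa, Scheme.Hom.comp_apply, hs, hu']
    · rw [← Scheme.Hom.comp_apply, hκb, Scheme.Hom.comp_apply, ht, hu']
    · rw [← Scheme.Hom.comp_apply, hκρ]; exact hr

end Groth.Agent.GrpdSplit
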