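import Groth.Agent.GrpdSplit.Datum
import Groth.Agent.AlgSpDec.LqfSplitZ

/-!
# Quotient of an etale scheme over a base by a clopen equivalence relation
-/

set_option backward.isDefEq.respectTransparency false
set_option backward.isDefEq.respectTransparency.types false

universe u

open CategoryTheory Limits Opposite AlgebraicGeometry AlgSp Groth.Agent.AlgSpLib Groth.Agent.AlgSpPts
open Groth.Agent.AlgSpDec

namespace Groth.Agent.GrpdSplit

variable {U : Scheme.{u}}

/-- The quotient of an etale `T` over `U` by a clopen equivalence relation is separated etale over `U`. -/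
theorem exists_quot_clopen {T : Over U} [Etale T.hom]
    (rel : ∀ {X : Over U}, (X ⟶ T) → (X ⟶ T) → Prop) (EV : (pullback T.hom T.hom).Opens)
    (hEV : IsClosed (EV : Set ↥(pullback T.hom T.hom)))
    (hiff : ∀ {X : Over U} (a b : X ⟶ T), rel a b ↔
      ∀ x, pullback.lift a.left b.left ((Over.w a).trans (Over.w b).symm) x ∈ EV)
    (hrefl : ∀ {X : Over U} (a : X ⟶ T), rel a a)
    (hsymm : ∀ {X : Over U} {a b : X ⟶ T}, rel a b → rel b a)
    (htrans : ∀ {X : Over U} {a b d : X ⟶ T}, rel a b → rel b d → rel a d) :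
    ∃ (Z : Over U) (π : T ⟶ Z), Etale π.left ∧ Surjective π.left ∧ Etale Z.hom ∧ IsSeparated Z.hom ∧
      ∀ {X : Over U} (a b : X ⟶ T), a ≫ π = b ≫ π ↔ rel a b := by
  let V : Over U := Over.mk (𝟙 U)
  let τ : T ⟶ V := CategoryTheory.Over.homMk T.hom (Category.comp_id _)
  have hV : ∀ {X : Over U} (x y : X ⟶ V), x = y := fun x y =>
    Over.OverMorphism.ext ((Category.comp_id _).symm.trans ((Over.w x).trans ((Over.w y).symm.trans (Category.comp_id _))))
  let TV : Over U := pullback τ τ
  have sqF : IsPullback (pullback.fst τ τ).left (pullback.snd τ τ).left T.hom T.hom :=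
    (IsPullback.of_hasPullback τ τ).map (Over.forget U)
  let φ := sqF.isoPullback
  let EV' : TV.left.Opens := φ.hom ⁻¹ᵁ EV
  let R : Over U := openOver TV EV'
  let i : R ⟶ TV := openOverι TV EV'
  let t := i ≫ pullback.fst τ τ
  let s := i ≫ pullback.snd τ τ
  have : IsClosedImmersion i.left := IsClosedImmersion.of_isPreimmersion EV'.ι (by
    rw [Scheme.Opens.range_ι]; exact hEV.preimage φ.hom.continuous)
  have : IsOpenImmersion i.left := inferInstanceAs (IsOpenImmersion EV'.ι)
  have : Etale (pullback.fst τ τ).left := MorphismProperty.of_isPullback (P := @Etale) sqF.flip ‹Etale T.hom›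
  have : Etale (pullback.snd τ τ).left := MorphismProperty.of_isPullback (P := @Etale) sqF ‹Etale T.hom›
  have hte : Etale t.left := inferInstanceAs (Etale (i.left ≫ (pullback.fst τ τ).left))
  have hse : Etale s.left := inferInstanceAs (Etale (i.left ≫ (pullback.snd τ τ).left))
  have hmem : ∀ {X : Over U} (l : X ⟶ TV), rel (l ≫ pullback.fst τ τ) (l ≫ pullback.snd τ τ) ↔
      ∀ x, l.left x ∈ EV' := by
    intro X l
    rw [hiff]
    refine forall_congr' fun x => ?_
    have e : pullback.lift (l ≫ pullback.fst τ τ).left (l ≫ pullback.snd τ τ).left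
        ((Over.w _).trans (Over.w _).symm) = l.left ≫ φ.hom := by
      apply pullback.hom_ext <;> simp [φ]
    rw [e, Scheme.Hom.comp_apply]
    rfl
  have hrel : ∀ {X : Over U} (a b : X ⟶ T), (∃ r : X ⟶ R, r ≫ t = a ∧ r ≫ s = b) ↔ rel a b := by
    intro X a b
    constructor
    · rintro ⟨r, rfl, rfl⟩
      have h := (hmem (r ≫ i)).2 fun x => (r.left x).2
      simp only [Category.assoc] at h
      exact h
    · intro h
      let l := pullback.lift (f := τ) (g := τ) a b (hV _ _)
      obtain ⟨r, hr⟩ := exists_factor_openImm i l fun x => by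
        show _ ∈ Set.range EV'.ι
        rw [Scheme.Opens.range_ι]
        refine (hmem l).1 ?_ x
        rw [pullback.lift_fst, pullback.lift_snd]
        exact h
      exact ⟨r, by rw [reassoc_of% hr, pullback.lift_fst], by rw [reassoc_of% hr, pullback.lift_snd]⟩
  have : Mono i := (Over.forget U).mono_of_mono_map (inferInstanceAs (Mono EV'.ι))
  have heq : IsEqvRel s t := ⟨fun X r r' h1 h2 => (cancel_mono i).1 (pullback.hom_ext
      (by simpa [t] using h1) (by simpa [s] using h2)),
    fun X => ⟨fun a => (hrel a a).2 (hrefl a),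
      fun {a b} h => (hrel b a).2 (hsymm ((hrel a b).1 h)),
      fun {a b d} h h' => (hrel a d).2 (htrans ((hrel a b).1 h) ((hrel b d).1 h'))⟩⟩
  obtain ⟨G, a, sq, hls⟩ : ∃ (G : Sp U) (a : (yon U).obj T ⟶ G),
      IsPullback ((yon U).map t) ((yon U).map s) a a ∧ Sheaf.IsLocallySurjective a := by
    refine ⟨_, quotMap s t, isPullback_quotMap heq, ?_⟩
    have : Epi (QuotSh.quotπ Scheme.fppfPrecoverage s t) := by
      unfold QuotSh.quotπ
      infer_instance
    exact (CategoryTheory.Sheaf.isLocallySurjective_iff_epi (quotMap s t)).2 (epi_comp _ _)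
  have : Surjective s.left := ⟨fun x => by
    obtain ⟨r, -, hr2⟩ := (hrel (𝟙 T) (𝟙 T)).2 (hrefl _)
    exact ⟨r.left x, by rw [← Scheme.Hom.comp_apply, ← Over.comp_left, hr2, Over.id_left]; rfl⟩⟩
  have hG := isAlgSpace_of_etale_kernelPair sq
  have hr : Representable a := representable_of_kernelPair sq
  have := isLocalAtTarget_fppf (@Etale : MorphismProperty Scheme.{u})
  have := isLocalAtTarget_fppf (@Surjective : MorphismProperty Scheme.{u})
  have hae := repWith_of_locallySurjective hr _ sq @Etale ((repWith_yon_map_iff _ _).2 hse)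
  have has := repWith_of_locallySurjective hr _ sq @Surjective ((repWith_yon_map_iff _ _).2 ‹Surjective s.left›)
  obtain ⟨f, hf⟩ := exists_desc_of_kernelPair sq ((yon U).map τ) (by
    rw [← Functor.map_comp, ← Functor.map_comp, hV (t ≫ τ) (s ≫ τ)])
  have hsep := isSeparatedMor_of_closed_relation hG sq hf.symm (i := i) rfl rfl
  have hqf : LocP (@LocallyQuasiFinite ⊓ @LocallyOfFiniteType) f :=
    locP_of_chart hae has (repWith_id @Etale V) (h := τ) (by rw [Category.comp_id, hf])
      ⟨inferInstanceAs (LocallyQuasiFinite T.hom), inferInstanceAs (LocallyOfFiniteType T.hom)⟩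
  obtain ⟨Z, ⟨e⟩⟩ := exists_iso_of_lqf_separated hG f hqf hsep
  obtain ⟨π, hπ⟩ := (yon U).map_surjective (a ≫ e.inv)
  obtain ⟨ζ, hζ⟩ := (yon U).map_surjective (e.hom ≫ f)
  have hπe : Etale π.left := (repWith_yon_map_iff _ π).1 (by
    rw [hπ]; exact repWith_comp hae (repWith_of_isIso _ e.inv))
  have hπs : Surjective π.left := (repWith_yon_map_iff _ π).1 (by
    rw [hπ]; exact repWith_comp has (repWith_of_isIso _ e.inv))
  have hζZ : ζ.left = Z.hom := (Category.comp_id _).symm.trans (Over.w ζ)
  refine ⟨Z, π, hπe, hπs, IsEtLocal.of_precomp π.left Z.hom hπe hπs ?_, ?_, fun {X} a' b' => ?_⟩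
  · rw [Over.w π]; infer_instance
  · rw [← hζZ]
    exact (isSeparatedMor_yon_map_iff ζ).1 (by rw [hζ]; exact isSeparatedMor_comp (isSeparatedMor_of_mono e.hom) hsep)
  · rw [← hrel]
    constructor
    · intro h
      exact exists_rel_lift sq a' b' (by
        rw [← cancel_mono e.inv, Category.assoc, Category.assoc, ← hπ, ← Functor.map_comp, ← Functor.map_comp, h])
    · rintro ⟨r, rfl, rfl⟩
      have e1 : t ≫ π = s ≫ π := (yon U).map_injective (by
        rw [(yon U).map_comp t π, (yon U).map_comp s π, hπ, ← Category.assoc, ← Category.assoc, sq.w])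
      exact (Category.assoc r t π).trans ((congrArg (r ≫ ·) e1).trans (Category.assoc r s π).symm)

end Groth.Agent.GrpdSplit
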